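import Cfsg.Agent.H740.K4.Equiv

/-!
# S4547: three invariant good characters (helper601)

`GoodInv3 S` : for every automorphism `φ` of `S` of `2`-power order modulo the inner automorphisms there are three
`Good` characters of `S` invariant under `φ`.
-/

set_option autoImplicit false

namespace Cfsg.Agent.H601.K4

open Cfsg Cfsg.Agent.Characters.Core

universe u v

/-- Row (B) of S4547: three `φ`-invariant `Good` characters for every `φ` of `2`-power order modulo the inner
automorphisms. -/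
def GoodInv3 (S : Type u) [Group S] : Prop :=
  ∀ φ : MulAut S, (∃ (k : ℕ) (s : S), ∀ x, (φ ^ 2 ^ k) x = s * x * s⁻¹) →
    ∃ χ : Fin 3 → S → ℂ, Function.Injective χ ∧ ∀ i, Good (χ i) ∧ ∀ x, χ i (φ x) = χ i x

section

variable {S : Type u} [Group S]

theorem GoodInv3.inv3 (h : GoodInv3 S) : Inv3 S := by
  intro φ hφ
  obtain ⟨χ, h1, h2⟩ := h φ hφ
  exact ⟨χ, h1, fun i => ⟨(h2 i).1.odd, (h2 i).2⟩⟩

/-- Three `Good` characters invariant under all automorphisms. -/
theorem GoodInv3.of_aut {χ : Fin 3 → S → ℂ} (h1 : Function.Injective χ) (h2 : ∀ i, Good (χ i))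
    (h3 : ∀ (i) (φ : MulAut S) (x : S), χ i (φ x) = χ i x) : GoodInv3 S :=
  fun φ _ => ⟨χ, h1, fun i => ⟨h2 i, h3 i φ⟩⟩

/-- Five `Good` characters and only inner automorphisms. -/
theorem GoodInv3.of_inner (h : Good5 S) (hin : ∀ φ : MulAut S, ∃ s : S, ∀ x, φ x = s * x * s⁻¹) : GoodInv3 S := by
  obtain ⟨χ, h1, h2⟩ := h
  refine fun φ _ => ⟨fun i => χ (Fin.castLE (by norm_num) i), fun i j hij => by simpa using h1 hij,
    fun i => ⟨h2 _, fun x => ?_⟩⟩
  obtain ⟨s, hs⟩ := hin φ
  rw [hs]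
  exact isIrr_isClassFunction (h2 _).odd.1 x s

variable {T : Type v} [Group T]

/-- Transport. -/
theorem GoodInv3.congr (e : T ≃* S) (h : GoodInv3 S) : GoodInv3 T := by
  intro φ hφ
  obtain ⟨k, s, hs⟩ := hφ
  have hpow : ∀ (n : ℕ) (x : S), (((MulAut.congr e) φ) ^ n) x = e ((φ ^ n) (e.symm x)) := by
    intro n
    rw [← map_pow]
    intro x
    rfl
  obtain ⟨χ, h1, h2⟩ := h ((MulAut.congr e) φ) ⟨k, e s, fun x => by
    rw [hpow, hs, map_mul, map_mul, map_inv, e.apply_symm_apply]⟩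
  refine ⟨fun i t => χ i (e t), fun i j hij => h1 ?_, fun i => ⟨H740.K4.good_comp e (h2 i).1, fun x => ?_⟩⟩
  · funext s
    have := congrFun hij (e.symm s)
    simpa using this
  · have h3 := (h2 i).2 (e x)
    have h4 := hpow 1 (e x)
    rw [pow_one, pow_one, e.symm_apply_apply] at h4
    rw [h4] at h3
    exact h3

end

end Cfsg.Agent.H601.K4
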