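import Cfsg.Agent.H601.K4.Engine
import Cfsg.Agent.H740.K4.Four
import Cfsg.Agent.S0148

/-!
# The engine for good characters (S4547; helper601, on paper helper307)

* `exists_good_not_mem` : a real `σ`-fixed character `Ψ` and a finite set `A` of real good characters with
  `Ψ(1) + ∑_A ⟨Ψ, χ⟩` odd: a further real good character with odd multiplicity;
* `Engine` : four good characters in the principal series and the fifth by the parity on `U`.
-/

set_option autoImplicit false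
set_option linter.unusedSectionVars false

open scoped ComplexConjugate
open Cfsg

namespace Cfsg.Agent.H601.K4

open Cfsg.Agent.Characters Cfsg.Agent.Characters.Core Cfsg.Agent.OddOrderCharacters.Clifford
open Cfsg.Agent.H618.Sigma

universe u

variable {G : Type u} [Group G]

/-- **A further good character.** -/
theorem exists_good_not_mem [Fintype G] {k : ℕ} (hk : Cube G k) {Ψ : G → ℂ} (hΨ : IsCharacter G Ψ)
    {n : ℕ} (hn : Ψ 1 = n) (hr : ∀ g, (Ψ g).im = 0) (hs : ∀ g, Ψ (g ^ k) = Ψ g) (A : Finset (IrrCharacter G))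
    (hA : ∀ χ ∈ A, H740.K4.Good k (χ : G → ℂ)) (hodd : Odd (n + ∑ χ ∈ A, H740.K4.mul Ψ χ)) :
    ∃ χ : IrrCharacter G, χ ∉ A ∧ H740.K4.Good k (χ : G → ℂ) ∧ Odd (H740.K4.mul Ψ χ) := by
  classical
  have : Finite (IrrCharacter G) := finite_irr
  have := Fintype.ofFinite (IrrCharacter G)
  set c : IrrCharacter G → ℕ := fun χ => if χ ∈ A then 0 else H740.K4.mul Ψ χ with hc
  set Ψ' : G → ℂ := ∑ χ : IrrCharacter G, c χ • (χ : G → ℂ) with hΨ'
  have hsum : Ψ = Ψ' + ∑ χ ∈ A, H740.K4.mul Ψ χ • (χ : G → ℂ) := by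
    have h1 := H740.K4.eq_sum hΨ
    rw [hΨ', ← Finset.sum_filter_add_sum_filter_not Finset.univ (fun χ => χ ∈ A) (fun χ => c χ • (χ : G → ℂ))]
    have h2 : ∑ χ ∈ Finset.univ.filter (fun χ => χ ∈ A), c χ • (χ : G → ℂ) = 0 := by
      refine Finset.sum_eq_zero fun χ hχ => ?_
      rw [hc]
      simp only
      rw [if_pos (Finset.mem_filter.1 hχ).2, zero_smul]
    have h3 : ∑ χ ∈ Finset.univ.filter (fun χ => ¬ χ ∈ A), c χ • (χ : G → ℂ) =
        ∑ χ ∈ Finset.univ.filter (fun χ => ¬ χ ∈ A), H740.K4.mul Ψ χ • (χ : G → ℂ) := by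
      refine Finset.sum_congr rfl fun χ hχ => ?_
      rw [hc]
      simp only
      rw [if_neg (Finset.mem_filter.1 hχ).2]
    have h4 : ∑ χ ∈ A, H740.K4.mul Ψ χ • (χ : G → ℂ) =
        ∑ χ ∈ Finset.univ.filter (fun χ => χ ∈ A), H740.K4.mul Ψ χ • (χ : G → ℂ) := by
      congr 1
      ext χ
      simp
    rw [h2, zero_add, h3, h4, add_comm, Finset.sum_filter_add_sum_filter_not]
    exact h1
  have hΨ'c : IsCharacter G Ψ' := isCharacter_sum _ fun χ _ => isCharacter_nsmul _ (isIrr_isCharacter χ.2)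
  have hval : ∀ g, Ψ' g = Ψ g - ∑ χ ∈ A, (H740.K4.mul Ψ χ : ℂ) * (χ : G → ℂ) g := by
    intro g
    have h1 := congrFun hsum g
    rw [Pi.add_apply, Finset.sum_apply] at h1
    rw [h1]
    simp only [Pi.smul_apply, nsmul_eq_mul]
    ring
  obtain ⟨n', hn'⟩ := isCharacter_apply_one hΨ'c
  have hn'odd : Odd n' := by
    have h1 : (n : ℂ) = n' + ∑ χ ∈ A, (H740.K4.mul Ψ χ : ℂ) * charDegree (χ : G → ℂ) := by
      have h2 := hval 1
      rw [hn', hn] at h2
      rw [h2]
      rw [Finset.sum_congr rfl fun χ _ => by rw [Cfsg.Agent.Blocks.Basic.irr_one_eq_charDegree (χ : IrrCharacter G).2]]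
      ring
    have h2 : n = n' + ∑ χ ∈ A, H740.K4.mul Ψ χ * charDegree (χ : G → ℂ) := by exact_mod_cast h1
    have h3 : (∑ χ ∈ A, H740.K4.mul Ψ χ * charDegree (χ : G → ℂ)) % 2 = (∑ χ ∈ A, H740.K4.mul Ψ χ) % 2 := by
      change _ ≡ _ [MOD 2]
      refine Nat.ModEq.sum fun χ hχ => ?_
      have h4 : charDegree (χ : G → ℂ) ≡ 1 [MOD 2] := Nat.odd_iff.1 (hA χ hχ).2.1
      simpa using h4.mul_left (H740.K4.mul Ψ χ)
    rw [Nat.odd_iff] at hodd ⊢
    omega
  obtain ⟨χ, hχ, hχ'⟩ := H740.K4.exists_good hk hΨ'c hn' hn'odd (fun g => by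
    rw [hval, Complex.sub_im, hr, Complex.im_sum, Finset.sum_eq_zero, sub_zero]
    intro χ hχ
    rw [Complex.mul_im, (hA χ hχ).1 g]
    simp) (fun g => by
    rw [hval, hval, hs]
    congr 1
    refine Finset.sum_congr rfl fun χ hχ => ?_
    rw [(hA χ hχ).2.2 g])
  have h5 : H740.K4.mul Ψ' χ = c χ := by
    have h6 := H740.K4.mul_spec hΨ'c χ
    rw [hΨ', classInner_sum_nsmul_irr] at h6
    exact_mod_cast h6.symm
  rw [h5, hc] at hχ'
  simp only at hχ'
  by_cases hmem : χ ∈ A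
  · rw [if_pos hmem] at hχ'
    exact absurd hχ' (by decide)
  · rw [if_neg hmem] at hχ'
    exact ⟨χ, hmem, hχ, hχ'⟩

section perm

variable [Fintype G] (H : Subgroup G) [Fintype H]

theorem isChar_perm : IsCharacter G (indFun H 1) := Cfsg.Agent.S0148.result H _ isCharacter_one

theorem perm_one : indFun H 1 (1 : G) = (H.index : ℕ) := by
  have hc : (Nat.card H : ℂ) ≠ 0 := card_ne_zero'
  rw [Core.indFun_apply]
  have h4 : ∀ x : G, extendByZero H (1 : H → ℂ) (x⁻¹ * 1 * x) = 1 := by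
    intro x
    have e : x⁻¹ * 1 * x = 1 := by group
    rw [e, ext_apply_mem H _ _ (one_mem H)]
    rfl
  rw [Finset.sum_congr rfl fun x _ => h4 x, Finset.sum_const, Finset.card_univ, nsmul_eq_mul,
    ← Nat.card_eq_fintype_card, ← H.card_mul_index]
  push_cast
  field_simp

theorem perm_rat (g : G) : ∃ q : ℚ, indFun H 1 g = q := by
  classical
  rw [Core.indFun_apply]
  refine ⟨(Nat.card H : ℚ)⁻¹ * ∑ x : G, if x⁻¹ * g * x ∈ H then 1 else 0, ?_⟩
  push_cast
  congr 1
  refine Finset.sum_congr rfl fun x _ => ?_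
  by_cases hx : x⁻¹ * g * x ∈ H
  · rw [ext_apply_mem H _ _ hx, if_pos hx]
    simp
  · rw [ext_apply_not_mem H _ _ hx, if_neg hx]
    simp

theorem perm_im (g : G) : (indFun H 1 g).im = 0 := by
  obtain ⟨q, hq⟩ := perm_rat H g
  rw [hq]
  exact Complex.ratCast_im q

theorem perm_pow {k : ℕ} (hk : Cube G k) (g : G) : indFun H 1 (g ^ k) = indFun H 1 g :=
  H740.K4.rat_pow hk (isChar_perm H) (perm_rat H) g

theorem mul_perm (χ : IrrCharacter G) : H740.K4.mul (indFun H 1) χ = cmN H 1 (χ : G → ℂ) := by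
  have h1 := H740.K4.mul_spec (isChar_perm H) χ
  rw [← cm_eq H (isIrr_isClassFunction χ.2), cmN_spec H isCharacter_one (isIrr_isCharacter χ.2)] at h1
  exact_mod_cast h1.symm

end perm

section dat

variable [Fintype G] {U B : Subgroup G} [Fintype U] [Fintype B] {θ : U →* ℂˣ}

theorem cm_symm (H : Subgroup G) [Fintype H] {ψ : H → ℂ} (hψ : IsCharacter H ψ) {χ : G → ℂ} (hχ : IsCharacter G χ) :
    classInner (fun t : H => χ t) ψ = cmN H ψ χ := by
  rw [← classInner_conj_symm]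
  have h1 := cmN_spec H hψ hχ
  rw [cm] at h1
  rw [h1, Complex.conj_natCast]

/-- the Steinberg character is `σ`-fixed -/
theorem st_pow (D : Dat U B θ) {k : ℕ} (hk : Cube G k) {St : G → ℂ} (hSt : IsIrrCharacter G St)
    (hStθ : cm U (lf θ) St ≠ 0) (hStB : cm B 1 St ≠ 0) (g : G) : St (g ^ k) = St g := by
  have h1 : IsIrrCharacter G (fun g => St (g ^ k)) := GaloisIrr.isIrr_pow hk.coprime hSt
  have h2 : cm U (lf θ) (fun g => St (g ^ k)) = cm U (lf θ) St := by
    rw [cm, cm, classInner_def, classInner_def]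
    congr 1
    refine Finset.sum_congr rfl fun u _ => ?_
    have h3 : Odd (orderOf (u : G)) := by
      rw [Subgroup.orderOf_coe]
      exact D.odd.of_dvd_nat (orderOf_dvd_natCard u)
    rw [hk.odd _ h3]
  have h3 : cm B 1 (fun g => St (g ^ k)) = cm B 1 St := by
    rw [cm_one_eq, cm_one_eq]
    congr 2
    have h4 := H740.K4.bij_pow (hk.subgroup B)
    refine Fintype.sum_bijective _ h4 _ _ fun b => ?_
    rw [SubmonoidClass.coe_pow]
  exact congrFun (unique_both U B (isChar_lf θ) isCharacter_one D.one h1 hSt (by rw [h2]; exact hStθ)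
    (by rw [h3]; exact hStB) hStθ hStB).1 g

/-- **Five good characters.** -/
theorem good5_of_dat (D : Dat U B θ) {St : G → ℂ} (hSt : OddIrr St) (hStr : ∀ x, (St x).im = 0)
    (hStθ : cm U (lf θ) St ≠ 0) (hStB : cm B 1 St ≠ 0) (H : Subgroup G) [Fintype H] (hBH : B ≤ H) (hH : 2 ∣ H.index)
    (hStH : cm H 1 St = 0)
    (T2 : ∀ χ : Fin 4 → G → ℂ, Function.Injective χ → (∀ i, Good (χ i)) → ∀ a : Fin 4 → ℕ,
      (∀ i, classInner (fun u : U => χ i u) (lf θ) = a i) → Odd (∑ i, a i) → Good5 G) : Good5 G := by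
  classical
  obtain ⟨k, hk⟩ := H740.K4.exists_cube G
  have hθc := isChar_lf θ
  have h1c : IsCharacter B (1 : B → ℂ) := isCharacter_one
  have hSts := st_pow D hk hSt.1 hStθ hStB
  set one : IrrCharacter G := ⟨1, isIrr_one⟩ with hone
  set st : IrrCharacter G := ⟨St, hSt.1⟩ with hst
  have gone : H740.K4.Good k (one : G → ℂ) := by
    have h1 := H740.K4.good_one hk
    exact h1
  have gst : H740.K4.Good k (st : G → ℂ) := ⟨hStr, odd_iff.2 hSt.2, hSts⟩
  -- `φ`
  obtain ⟨φ, hφ1, hφg, hφH⟩ := exists_good_not_mem hk (isChar_perm H) (perm_one H) (perm_im H) (perm_pow H hk) {one}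
    (by
      intro χ hχ
      rw [Finset.mem_singleton.1 hχ]
      exact gone) (by
      rw [Finset.sum_singleton, mul_perm, cmN_one_self, Nat.odd_iff]
      omega)
  rw [mul_perm] at hφH
  have hφ1' : φ ≠ one := fun h => hφ1 (Finset.mem_singleton.2 h)
  have hφc := isIrr_isCharacter φ.2
  have hφH' : cm H 1 (φ : G → ℂ) ≠ 0 := cm_ne_of_cmN isCharacter_one hφc (odd_iff.1 hφH)
  have hφSt : φ ≠ st := by
    rintro rfl
    exact hφH' hStH
  have hφB : cm B 1 (φ : G → ℂ) ≠ 0 := by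
    apply cm_one_ne
    refine OddDeg.mult_ne_zero_of_le hBH hφc ?_
    intro h1
    apply hφH'
    rw [cm_one_eq_mult, h1, map_zero]
  have hφB' : Odd (cmN B 1 (φ : G → ℂ)) := by
    obtain ⟨ψ, hψ, hψU, hψ2, hψφ⟩ := exists_odd_lift D.le D.norm D.odd hφc hφg.1 (odd_iff.1 hφg.2.1)
    have hψ1 : ψ = 1 := by
      by_contra hne
      exact hφB (D.dis ψ hψ hψU hne _ φ.2 (cm_ne_of_cmN (isIrr_isCharacter hψ) hφc hψφ))
    rw [hψ1] at hψφ
    exact odd_iff.2 hψφ
  -- `φ'`
  have hS := unique_both U B hθc h1c D.one hSt.1 hSt.1 hStθ hStB hStθ hStB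
  have hst1 : st ≠ one := by
    intro h
    have h2 : cm U (lf θ) (1 : G → ℂ) = 0 := by
      refine classInner_irr_ne (Linear.isIrrCharacter_hom θ) isIrr_one fun h => D.ne ?_
      ext t
      exact congrFun h t
    apply hStθ
    have h3 : St = 1 := congrArg Subtype.val h
    rw [h3]
    exact h2
  obtain ⟨φ', hφ'A, hφ'g, hφ'B⟩ := exists_good_not_mem hk (isChar_perm B) (perm_one B) (perm_im B) (perm_pow B hk)
    {one, st, φ} (by
      intro χ hχ
      simp only [Finset.mem_insert, Finset.mem_singleton] at hχ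
      rcases hχ with rfl | rfl | rfl
      · exact gone
      · exact gst
      · exact hφg) (by
      rw [Finset.sum_insert (by
        simp only [Finset.mem_insert, Finset.mem_singleton, not_or]
        exact ⟨hst1.symm, hφ1'.symm⟩), Finset.sum_insert (by
        rw [Finset.mem_singleton]
        exact hφSt.symm), Finset.sum_singleton, mul_perm, mul_perm, mul_perm]
      have h3 : cmN B 1 (one : G → ℂ) = 1 := cmN_one_self B
      have h4 : cmN B 1 (st : G → ℂ) = 1 := hS.2.2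
      have h5 := D.even
      rw [h3, h4, Nat.odd_iff]
      rw [Nat.odd_iff] at hφB'
      omega)
  rw [mul_perm] at hφ'B
  simp only [Finset.mem_insert, Finset.mem_singleton, not_or] at hφ'A
  obtain ⟨n1, n2, n3⟩ := hφ'A
  have hφ'c := isIrr_isCharacter φ'.2
  have hφ'B' : cm B 1 (φ' : G → ℂ) ≠ 0 := cm_ne_of_cmN isCharacter_one hφ'c (odd_iff.1 hφ'B)
  -- the fifth
  have hzero : ∀ χ : IrrCharacter G, χ ≠ st → cm B 1 (χ : G → ℂ) ≠ 0 → cmN U (lf θ) (χ : G → ℂ) = 0 := by
    intro χ hχ hc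
    by_contra h0
    apply hχ
    have h1 : cm U (lf θ) (χ : G → ℂ) ≠ 0 := by
      rw [cmN_spec U hθc (isIrr_isCharacter χ.2)]
      exact_mod_cast h0
    exact Subtype.ext (unique_both U B hθc h1c D.one χ.2 hSt.1 h1 hc hStθ hStB).1
  have honeB : cm B 1 (one : G → ℂ) ≠ 0 := by
    have : cm B 1 (one : G → ℂ) = 1 := cm_one_self B
    rw [this]
    exact one_ne_zero
  refine T2 (fun i => ((![one, st, φ, φ'] i : IrrCharacter G) : G → ℂ)) ?_ ?_ ![0, 1, 0, 0] ?_ ?_
  · intro i j hij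
    have h1 : (![one, st, φ, φ'] i : IrrCharacter G) = ![one, st, φ, φ'] j := Subtype.ext hij
    fin_cases i <;> fin_cases j <;> simp_all
  · intro i
    fin_cases i
    · exact H740.K4.good_of hk one.2 gone
    · exact H740.K4.good_of hk st.2 gst
    · exact H740.K4.good_of hk φ.2 hφg
    · exact H740.K4.good_of hk φ'.2 hφ'g
  · intro i
    rw [cm_symm U hθc (isIrr_isCharacter (![one, st, φ, φ'] i).2)]
    congr 1
    fin_cases i
    · exact hzero one hst1.symm honeB
    · exact hS.2.1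
    · exact hzero φ hφSt hφB
    · exact hzero φ' n2 hφ'B'
  · decide

end dat

end Cfsg.Agent.H601.K4
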