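import Cfsg.Agent.H601.K4.InvDefs
import Cfsg.Agent.H601.K4.GoodEngine
import Cfsg.Agent.H307.K4.Parity

/-!
# Parity of the good characters invariant under an automorphism of `2`-power order (S4547; helper601)

* `exists_good_inv` : in a real `σ`-fixed and `τ`-invariant character `Ψ`;
* `exists_good_inv_odd` : for a character of a subgroup of odd order.
-/

set_option autoImplicit false
set_option linter.unusedSectionVars false

open scoped ComplexConjugate
open Cfsg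

namespace Cfsg.Agent.H601.K4

open Cfsg.Agent.Characters Cfsg.Agent.Characters.Core Cfsg.Agent.OddOrderCharacters.Clifford
open Cfsg.Agent.H618.Sigma

universe u

/-- Fixed points of a map of 2-power order on a subset, weighted. -/
theorem sum_fixed_pred {Ω R : Type*} [Fintype Ω] [DecidableEq Ω] [Ring R] [CharP R 2] (s : Ω → Ω) (n : ℕ)
    (hs : ∀ ω, s^[2 ^ n] ω = ω) (p : Ω → Prop) [DecidablePred p] (hp : ∀ ω, p ω → p (s ω)) (f : Ω → R)
    (hf : ∀ ω, p ω → f (s ω) = f ω) : ∑ ω with p ω, f ω = ∑ ω with (p ω ∧ s ω = ω), f ω := by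
  have hp' : ∀ ω, p (s ω) → p ω := by
    intro ω h
    have h1 : ∀ (m : ℕ) (ω : Ω), p ω → p (s^[m] ω) := by
      intro m
      induction m with
      | zero => exact fun ω h => h
      | succ m ih => exact fun ω h => ih _ (hp _ h)
    have h2 := h1 (2 ^ n - 1) _ h
    rw [← Function.iterate_succ_apply, Nat.succ_eq_add_one, Nat.sub_add_cancel Nat.one_le_two_pow, hs] at h2
    exact h2
  have h1 := sum_fixed_perm s n hs (fun ω => if p ω then f ω else 0) (by
    intro ω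
    by_cases h : p ω
    · simp only [if_pos h, if_pos (hp ω h), hf ω h]
    · simp only [if_neg h, if_neg (fun h2 => h (hp' ω h2))])
  rw [Finset.sum_filter, h1, Finset.sum_filter, Finset.sum_filter]
  refine Finset.sum_congr rfl fun ω _ => ?_
  by_cases h : p ω <;> by_cases h2 : s ω = ω <;> simp [h, h2]

variable {G : Type u} [Group G]

/-- the action of an automorphism on the irreducible characters -/
def tauI (τ : MulAut G) (χ : IrrCharacter G) : IrrCharacter G :=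
  ⟨fun g => (χ : G → ℂ) (τ g), isIrr_comp τ.toMonoidHom τ.surjective χ.2⟩

theorem tauI_apply (τ : MulAut G) (χ : IrrCharacter G) (g : G) : (tauI τ χ : G → ℂ) g = (χ : G → ℂ) (τ g) := rfl

theorem tauI_iter (τ : MulAut G) (χ : IrrCharacter G) (m : ℕ) (g : G) :
    ((tauI τ)^[m] χ : G → ℂ) g = (χ : G → ℂ) ((τ ^ m) g) := by
  induction m generalizing χ with
  | zero => rfl
  | succ m ih =>
    rw [Function.iterate_succ_apply, ih, tauI_apply, pow_succ']
    rfl

theorem tauI_two {τ : MulAut G} {k : ℕ} {s : G} (h : ∀ x, (τ ^ 2 ^ k) x = s * x * s⁻¹) (χ : IrrCharacter G) :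
    (tauI τ)^[2 ^ k] χ = χ := by
  apply Subtype.ext
  funext g
  rw [tauI_iter, h]
  exact isIrr_isClassFunction χ.2 g s

theorem tauI_eq_iff (τ : MulAut G) (χ : IrrCharacter G) :
    tauI τ χ = χ ↔ ∀ x, (χ : G → ℂ) (τ x) = (χ : G → ℂ) x :=
  ⟨fun h x => congrFun (congrArg Subtype.val h) x, fun h => Subtype.ext (funext h)⟩

theorem charDegree_tauI (τ : MulAut G) (χ : IrrCharacter G) :
    charDegree (tauI τ χ : G → ℂ) = charDegree (χ : G → ℂ) := by
  unfold charDegree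
  rw [tauI_apply, map_one]

theorem tauI_good (τ : MulAut G) {k : ℕ} {χ : IrrCharacter G} (h : H740.K4.Good k (χ : G → ℂ)) :
    H740.K4.Good k (tauI τ χ : G → ℂ) := by
  refine ⟨fun g => h.1 _, ?_, fun g => ?_⟩
  · rw [charDegree_tauI]
    exact h.2.1
  · rw [tauI_apply, tauI_apply, map_pow, h.2.2]

/-- **The sum over the invariant good characters.** -/
theorem sum_inv [Fintype G] {k : ℕ} (hk : Cube G k) {Ψ : G → ℂ} (hΨ : IsCharacter G Ψ)
    {n : ℕ} (hn : Ψ 1 = n) (hr : ∀ g, (Ψ g).im = 0) (hs : ∀ g, Ψ (g ^ k) = Ψ g) (τ : MulAut G)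
    (hτ : ∃ (k : ℕ) (s : G), ∀ x, (τ ^ 2 ^ k) x = s * x * s⁻¹)
    (hinv : ∀ χ : IrrCharacter G, classInner Ψ (tauI τ χ : G → ℂ) = classInner Ψ (χ : G → ℂ))
    [Fintype (IrrCharacter G)] (O : Finset (IrrCharacter G))
    (hO : ∀ χ, χ ∈ O ↔ H740.K4.Good k (χ : G → ℂ) ∧ tauI τ χ = χ) :
    ((∑ χ ∈ O, H740.K4.mul Ψ χ : ℕ) : ZMod 2) = n := by
  classical
  obtain ⟨e, s, hs'⟩ := hτ
  have hmcj : ∀ χ, H740.K4.mul Ψ (H740.K4.cj χ) = H740.K4.mul Ψ χ := by
    intro χ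
    have h1 := H740.K4.mul_cj hr χ
    rw [H740.K4.mul_spec hΨ, H740.K4.mul_spec hΨ, Complex.conj_natCast] at h1
    exact_mod_cast h1
  have hmsig : ∀ χ, H740.K4.mul Ψ (sig hk χ) = H740.K4.mul Ψ χ := by
    intro χ
    have h1 := H740.K4.mul_sig hk hs χ
    rw [H740.K4.mul_spec hΨ, H740.K4.mul_spec hΨ] at h1
    exact_mod_cast h1
  have hmtau : ∀ χ, H740.K4.mul Ψ (tauI τ χ) = H740.K4.mul Ψ χ := by
    intro χ
    have h1 := hinv χ
    rw [H740.K4.mul_spec hΨ, H740.K4.mul_spec hΨ] at h1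
    exact_mod_cast h1
  set f : IrrCharacter G → ZMod 2 := fun χ => (H740.K4.mul Ψ χ : ZMod 2) * (charDegree (χ : G → ℂ) : ZMod 2) with hf
  have h0 : ∑ χ : IrrCharacter G with True, f χ = n := by
    have h1 : (n : ℂ) = ∑ χ : IrrCharacter G, (H740.K4.mul Ψ χ : ℂ) * charDegree (χ : G → ℂ) := by
      rw [← hn]
      conv_lhs => rw [H740.K4.eq_sum hΨ]
      rw [Finset.sum_apply]
      refine Finset.sum_congr rfl fun χ _ => ?_
      rw [Pi.smul_apply, nsmul_eq_mul, Cfsg.Agent.Blocks.Basic.irr_one_eq_charDegree χ.2]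
    have h2 : n = ∑ χ : IrrCharacter G, H740.K4.mul Ψ χ * charDegree (χ : G → ℂ) := by exact_mod_cast h1
    rw [Finset.filter_true, h2]
    push_cast
    rfl
  obtain ⟨m, hm⟩ := hk.exists_iter
  rw [sum_fixed_pred H740.K4.cj 1 (fun χ => H740.K4.cj_cj χ) (fun _ => True) (fun _ h => h) f (fun χ _ => by
    simp only [hf, hmcj, H740.K4.charDegree_cj])] at h0
  rw [sum_fixed_pred (sig hk) m (fun χ => by
    apply Subtype.ext
    funext g
    rw [sig_iter, hm]) (fun χ => True ∧ H740.K4.cj χ = χ) (fun χ h => ⟨trivial, by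
      rw [← H740.K4.sig_cj, h.2]⟩) f (fun χ _ => by simp only [hf, hmsig, charDegree_sig])] at h0
  rw [sum_fixed_pred (tauI τ) e (tauI_two hs') (fun χ => (True ∧ H740.K4.cj χ = χ) ∧ sig hk χ = χ) (fun χ h => by
      refine ⟨⟨trivial, ?_⟩, ?_⟩
      · rw [H740.K4.cj_eq_iff]
        exact fun g => (H740.K4.cj_eq_iff χ).1 h.1.2 _
      · rw [sig_eq_iff]
        intro g
        rw [tauI_apply, tauI_apply, map_pow]
        exact (sig_eq_iff hk χ).1 h.2 _) f (fun χ _ => by simp only [hf, hmtau, charDegree_tauI])] at h0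
  rw [← h0]
  push_cast
  symm
  rw [← Finset.sum_subset (s₁ := O)]
  · refine Finset.sum_congr rfl fun χ hχ => ?_
    have h1 := ((hO χ).1 hχ).1.2.1
    rw [hf]
    simp only
    rw [ZMod.natCast_eq_one_iff_odd.2 h1, mul_one]
  · intro χ hχ
    rw [Finset.mem_filter]
    obtain ⟨h1, h2⟩ := (hO χ).1 hχ
    exact ⟨Finset.mem_univ _, ⟨⟨trivial, (H740.K4.cj_eq_iff χ).2 h1.1⟩, (sig_eq_iff hk χ).2 h1.2.2⟩, h2⟩
  · intro χ hχ hχO
    rw [Finset.mem_filter] at hχ
    obtain ⟨-, ⟨⟨-, h1⟩, h2⟩, h3⟩ := hχ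
    have h4 : ¬ Odd (charDegree (χ : G → ℂ)) := fun h => hχO ((hO χ).2
      ⟨⟨(H740.K4.cj_eq_iff χ).1 h1, h, (sig_eq_iff hk χ).1 h2⟩, h3⟩)
    rw [hf]
    simp only
    rw [ZMod.natCast_eq_zero_iff_even.2 (Nat.not_odd_iff_even.1 h4), mul_zero]

/-- **A further invariant good character.** -/
theorem exists_good_inv [Fintype G] {k : ℕ} (hk : Cube G k) {Ψ : G → ℂ} (hΨ : IsCharacter G Ψ)
    {n : ℕ} (hn : Ψ 1 = n) (hr : ∀ g, (Ψ g).im = 0) (hs : ∀ g, Ψ (g ^ k) = Ψ g) (τ : MulAut G)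
    (hτ : ∃ (k : ℕ) (s : G), ∀ x, (τ ^ 2 ^ k) x = s * x * s⁻¹)
    (hinv : ∀ χ : IrrCharacter G, classInner Ψ (tauI τ χ : G → ℂ) = classInner Ψ (χ : G → ℂ))
    (A : Finset (IrrCharacter G)) (hA : ∀ χ ∈ A, H740.K4.Good k (χ : G → ℂ) ∧ tauI τ χ = χ)
    (hodd : Odd (n + ∑ χ ∈ A, H740.K4.mul Ψ χ)) :
    ∃ χ : IrrCharacter G, χ ∉ A ∧ H740.K4.Good k (χ : G → ℂ) ∧ tauI τ χ = χ ∧ Odd (H740.K4.mul Ψ χ) := by
  classical
  have : Finite (IrrCharacter G) := finite_irr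
  have := Fintype.ofFinite (IrrCharacter G)
  set O : Finset (IrrCharacter G) :=
    Finset.univ.filter fun χ => H740.K4.Good k (χ : G → ℂ) ∧ tauI τ χ = χ with hO
  have h1 := sum_inv hk hΨ hn hr hs τ hτ hinv O (fun χ => by rw [hO, Finset.mem_filter]; simp)
  have hsub : A ⊆ O := fun χ hχ => by
    rw [hO, Finset.mem_filter]
    exact ⟨Finset.mem_univ _, hA χ hχ⟩
  by_contra hcon
  push Not at hcon
  rw [← Finset.sum_sdiff hsub] at h1
  have h2 : ∀ χ ∈ O \ A, (H740.K4.mul Ψ χ : ZMod 2) = 0 := by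
    intro χ hχ
    rw [Finset.mem_sdiff, hO, Finset.mem_filter] at hχ
    rw [ZMod.natCast_eq_zero_iff_even, ← Nat.not_odd_iff_even]
    exact hcon χ hχ.2 hχ.1.2.1 hχ.1.2.2
  have h3 : ((n + ∑ χ ∈ A, H740.K4.mul Ψ χ : ℕ) : ZMod 2) = 0 := by
    push_cast at h1 ⊢
    rw [← h1, Finset.sum_eq_zero h2, zero_add, ← two_mul]
    have : (2 : ZMod 2) = 0 := by decide
    rw [this, zero_mul]
  rw [ZMod.natCast_eq_zero_iff_even, ← Nat.not_odd_iff_even] at h3
  exact h3 hodd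

/-- **The same for a character of a subgroup of odd order.** -/
theorem exists_good_inv_odd [Finite G] (hev : Even (Nat.card G)) (U : Subgroup G) [Fintype U]
    (hU : Odd (Nat.card U)) {ψ : U → ℂ} (hψ : IsIrrCharacter U ψ) (m : IrrCharacter G → ℕ)
    (hm : ∀ χ : IrrCharacter G, classInner (fun u : U => (χ : G → ℂ) u) ψ = m χ) (τ : MulAut G)
    (hτ : ∃ (k : ℕ) (s : G), ∀ x, (τ ^ 2 ^ k) x = s * x * s⁻¹)
    (hinv : ∀ χ : IrrCharacter G, m (tauI τ χ) = m χ)
    (A : Finset (IrrCharacter G)) (hA : ∀ χ ∈ A, Good (χ : G → ℂ) ∧ tauI τ χ = χ)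
    (hodd : Odd (∑ χ ∈ A, m χ)) :
    ∃ χ : IrrCharacter G, χ ∉ A ∧ Good (χ : G → ℂ) ∧ tauI τ χ = χ ∧ Odd (m χ) := by
  classical
  have : Finite (IrrCharacter G) := finite_irr
  have := Fintype.ofFinite (IrrCharacter G)
  obtain ⟨e, s, hs⟩ := hτ
  set O : Finset (IrrCharacter G) := Finset.univ.filter fun χ => Good (χ : G → ℂ) with hO
  have h1 := H307.K4.even_sum_good hev U hU hψ m hm O (fun χ => by rw [hO, Finset.mem_filter]; simp)
  have h2 := sum_fixed_pred (R := ZMod 2) (tauI τ) e (tauI_two hs) (fun χ => Good (χ : G → ℂ)) (fun χ h =>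
    H740.K4.good_comp τ h) (fun χ => (m χ : ZMod 2)) (fun χ _ => by rw [hinv])
  rw [← ZMod.natCast_eq_zero_iff_even] at h1
  push_cast at h1
  rw [hO, h2] at h1
  set O' : Finset (IrrCharacter G) := Finset.univ.filter fun χ => Good (χ : G → ℂ) ∧ tauI τ χ = χ with hO'
  have hsub : A ⊆ O' := fun χ hχ => by
    rw [hO', Finset.mem_filter]
    exact ⟨Finset.mem_univ _, hA χ hχ⟩
  by_contra hcon
  push Not at hcon
  rw [← Finset.sum_sdiff hsub] at h1
  have h3 : ∀ χ ∈ O' \ A, (m χ : ZMod 2) = 0 := by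
    intro χ hχ
    rw [Finset.mem_sdiff, hO', Finset.mem_filter] at hχ
    rw [ZMod.natCast_eq_zero_iff_even, ← Nat.not_odd_iff_even]
    exact hcon χ hχ.2 hχ.1.2.1 hχ.1.2.2
  rw [Finset.sum_eq_zero h3, zero_add] at h1
  have h4 : ((∑ χ ∈ A, m χ : ℕ) : ZMod 2) = 0 := by
    push_cast
    exact h1
  rw [ZMod.natCast_eq_zero_iff_even, ← Nat.not_odd_iff_even] at h4
  exact h4 hodd

section perm

variable [Fintype G]

/-- the permutation character of a subgroup whose class is invariant -/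
theorem perm_inv (H : Subgroup G) [Fintype H] (τ : MulAut G) {g : G} (hg : ∀ x, g⁻¹ * τ x * g ∈ H ↔ x ∈ H)
    (χ : IrrCharacter G) :
    classInner (indFun H 1) (tauI τ χ : G → ℂ) = classInner (indFun H 1) (χ : G → ℂ) := by
  let α : G ≃* G := τ.trans (MulAut.conj g⁻¹)
  have hα : ∀ x, α x = g⁻¹ * τ x * g := by
    intro x
    change (MulAut.conj g⁻¹) (τ x) = _
    simp
  have h1 : (tauI τ χ : G → ℂ) = fun x => (χ : G → ℂ) (α x) := by
    funext x
    rw [tauI_apply, hα]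
    have := isIrr_isClassFunction χ.2 (τ x) g⁻¹
    rw [inv_inv] at this
    exact this.symm
  have h2 := OddDeg.mult_comp H H (χ : G → ℂ) α (fun x => by rw [hα]; exact hg x)
  rw [← h1] at h2
  rw [← cm_eq H (isIrr_isClassFunction (tauI τ χ).2), ← cm_eq H (isIrr_isClassFunction χ.2), cm_one_eq_mult,
    cm_one_eq_mult, h2]

end perm

end Cfsg.Agent.H601.K4
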