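import Cfsg.Agent.H601.K4.Lin

/-!
# The Gelfand-Graev parity engine (S4947, S4547; helper601)

`five` : `U ≤ B ≤ G` with `U` normal in `B` of odd order, `|G : B|` even, `θ` a linear character of `U` with
`⟨θ^G, 1_B^G⟩ = 1`, for `ψ ≠ 1` irreducible of `B / U` the characters `ψ^G` and `1_B^G` disjoint,
`St` a real irreducible character of odd degree in `θ^G` and `1_B^G`, `α ≠ 1` an irreducible character of odd degree in
`1_B^G`, neither `α` nor its conjugate in `θ^G`. Then `G` has five irreducible characters of odd degree.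
-/

set_option autoImplicit false
set_option linter.unusedSectionVars false

open scoped ComplexConjugate
open Cfsg

namespace Cfsg.Agent.H601.K4

open Cfsg.Agent.Characters Cfsg.Agent.Characters.Core Cfsg.Agent.OddOrderCharacters.Clifford

universe u

variable {G : Type u} [Group G]

/-- a linear character as a function -/
noncomputable def lf {H : Subgroup G} (θ : H →* ℂˣ) : H → ℂ := fun t => (θ t : ℂ)

theorem isChar_lf {H : Subgroup G} (θ : H →* ℂˣ) : IsCharacter H (lf θ) := isIrr_isCharacter (Linear.isIrrCharacter_hom θ)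

/-- the data of the engine -/
structure Dat [Fintype G] (U B : Subgroup G) [Fintype U] [Fintype B] (θ : U →* ℂˣ) : Prop where
  le : U ≤ B
  norm : ∀ b ∈ B, ∀ u ∈ U, b * u * b⁻¹ ∈ U
  odd : Odd (Nat.card U)
  even : 2 ∣ B.index
  ne : θ ≠ 1
  one : classInner (indFun U (lf θ)) (indFun B 1) = 1
  dis : ∀ ψ : B → ℂ, IsIrrCharacter B ψ → (∀ (u : G) (hu : u ∈ U) (b : B), ψ (⟨u, le hu⟩ * b) = ψ b) → ψ ≠ 1 →
    ∀ χ : G → ℂ, IsIrrCharacter G χ → cm B ψ χ ≠ 0 → cm B 1 χ = 0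

/-- If a sum of natural numbers is even and one term is odd there is another odd term. -/
theorem exists_other {ι : Type*} [Fintype ι] {a : ι → ℕ} (h : 2 ∣ ∑ i, a i) {i : ι} (hi : ¬ 2 ∣ a i) :
    ∃ j, j ≠ i ∧ ¬ 2 ∣ a j := by
  classical
  by_contra hcon
  push Not at hcon
  apply hi
  rw [← Finset.add_sum_erase _ _ (Finset.mem_univ i)] at h
  exact (Nat.dvd_add_left (Finset.dvd_sum fun j hj => hcon j (Finset.ne_of_mem_erase hj))).1 h

theorem sum_one_unique {ι : Type*} [Fintype ι] {a : ι → ℕ} (h : ∑ i, a i = 1) {i j : ι} (hi : a i ≠ 0)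
    (hj : a j ≠ 0) : i = j ∧ a i = 1 := by
  classical
  have h9 := Finset.add_sum_erase Finset.univ a (Finset.mem_univ i)
  constructor
  · by_contra hne
    have h10 : a j ≤ ∑ k ∈ Finset.univ.erase i, a k :=
      Finset.single_le_sum (fun _ _ => Nat.zero_le _) (Finset.mem_erase.2 ⟨fun h => hne h.symm, Finset.mem_univ _⟩)
    omega
  · omega

theorem inj5 {β : Type*} {a b c d e : β} (h1 : a ≠ b) (h2 : a ≠ c) (h3 : a ≠ d) (h4 : a ≠ e) (h5 : b ≠ c)
    (h6 : b ≠ d) (h7 : b ≠ e) (h8 : c ≠ d) (h9 : c ≠ e) (h10 : d ≠ e) : Function.Injective ![a, b, c, d, e] := by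
  intro i j
  fin_cases i <;> fin_cases j <;> simp [h1, h2, h3, h4, h5, h6, h7, h8, h9, h10, h1.symm, h2.symm, h3.symm, h4.symm,
    h5.symm, h6.symm, h7.symm, h8.symm, h9.symm, h10.symm]

theorem all5 {β : Type*} {P : β → Prop} {a b c d e : β} (h1 : P a) (h2 : P b) (h3 : P c) (h4 : P d) (h5 : P e) :
    ∀ i, P (![a, b, c, d, e] i) := by
  intro i
  fin_cases i <;> assumption

theorem not_dvd_mul {a b : ℕ} (h : ¬ 2 ∣ a * b) : ¬ 2 ∣ a ∧ ¬ 2 ∣ b :=
  ⟨fun h1 => h (h1.mul_right b), fun h1 => h (h1.mul_left a)⟩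

section

variable [Fintype G] {U B : Subgroup G} [Fintype U] [Fintype B] {θ : U →* ℂˣ}

/-- two characters with disjoint induced characters -/
theorem not_both (K H : Subgroup G) [Fintype K] [Fintype H] {f : K → ℂ} {f' : H → ℂ} (hf : IsCharacter K f)
    (hf' : IsCharacter H f') (h : classInner (indFun K f) (indFun H f') = 0) {χ : G → ℂ}
    (hχ : IsIrrCharacter G χ) : cm K f χ = 0 ∨ cm H f' χ = 0 := by
  classical
  have hfin : Finite (IrrCharacter G) := finite_irr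
  have := Fintype.ofFinite (IrrCharacter G)
  have h1 := sum_cm_mul K hf H hf'
  rw [h] at h1
  have h2 : ∑ χ : IrrCharacter G, cmN K f χ * cmN H f' χ = 0 := by exact_mod_cast h1
  rw [Finset.sum_eq_zero_iff] at h2
  have h3 := h2 ⟨χ, hχ⟩ (Finset.mem_univ _)
  rcases Nat.mul_eq_zero.1 h3 with h4 | h4
  · left
    rw [cmN_spec K hf (isIrr_isCharacter hχ)]
    exact_mod_cast h4
  · right
    rw [cmN_spec H hf' (isIrr_isCharacter hχ)]
    exact_mod_cast h4

/-- two characters whose induced characters have a unique common constituent -/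
theorem unique_both (K H : Subgroup G) [Fintype K] [Fintype H] {f : K → ℂ} {f' : H → ℂ} (hf : IsCharacter K f)
    (hf' : IsCharacter H f') (h : classInner (indFun K f) (indFun H f') = 1) {χ ψ : G → ℂ}
    (hχ : IsIrrCharacter G χ) (hψ : IsIrrCharacter G ψ) (h1 : cm K f χ ≠ 0) (h2 : cm H f' χ ≠ 0) (h3 : cm K f ψ ≠ 0)
    (h4 : cm H f' ψ ≠ 0) : χ = ψ ∧ cmN K f χ = 1 ∧ cmN H f' χ = 1 := by
  classical
  have hfin : Finite (IrrCharacter G) := finite_irr
  have := Fintype.ofFinite (IrrCharacter G)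
  have h5 := sum_cm_mul K hf H hf'
  rw [h] at h5
  have h6 : ∑ χ : IrrCharacter G, cmN K f χ * cmN H f' χ = 1 := by exact_mod_cast h5
  rw [cmN_spec K hf (isIrr_isCharacter hχ)] at h1
  rw [cmN_spec H hf' (isIrr_isCharacter hχ)] at h2
  rw [cmN_spec K hf (isIrr_isCharacter hψ)] at h3
  rw [cmN_spec H hf' (isIrr_isCharacter hψ)] at h4
  have e1 : cmN K f χ ≠ 0 := by exact_mod_cast h1
  have e2 : cmN H f' χ ≠ 0 := by exact_mod_cast h2
  have e3 : cmN K f ψ ≠ 0 := by exact_mod_cast h3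
  have e4 : cmN H f' ψ ≠ 0 := by exact_mod_cast h4
  obtain ⟨h7, h8⟩ := sum_one_unique (a := fun χ : IrrCharacter G => cmN K f χ * cmN H f' χ) h6 (i := ⟨χ, hχ⟩)
    (j := ⟨ψ, hψ⟩) (mul_ne_zero e1 e2) (mul_ne_zero e3 e4)
  have h9 : cmN K f χ * cmN H f' χ = 1 := h8
  exact ⟨congrArg Subtype.val h7, Nat.eq_one_of_mul_eq_one_right h9, Nat.eq_one_of_mul_eq_one_left h9⟩

theorem cm_one_eq (H : Subgroup G) [Fintype H] (χ : G → ℂ) :
    cm H 1 χ = conj ((Nat.card H : ℂ)⁻¹ * ∑ x : H, χ x) := by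
  rw [cm, classInner_def, map_mul, map_inv₀, Complex.conj_natCast, map_sum]
  congr 1
  refine Finset.sum_congr rfl fun t _ => ?_
  simp

theorem cm_one_ne (H : Subgroup G) [Fintype H] {χ : G → ℂ} (h : OddDeg.mult H χ ≠ 0) : cm H 1 χ ≠ 0 := by
  intro h0
  apply h
  rw [cm_one_eq] at h0
  have h1 := congrArg (fun z : ℂ => conj z) h0
  simp only [Complex.conj_conj, map_zero] at h1
  rw [OddDeg.mult, OddDeg.sB_one_eq]
  convert h1

theorem cm_one_eq_mult (H : Subgroup G) [Fintype H] (χ : G → ℂ) : cm H 1 χ = conj (OddDeg.mult H χ) := by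
  rw [cm_one_eq, OddDeg.mult, OddDeg.sB_one_eq]
  congr 2
  convert rfl

theorem cm_one_conj (H : Subgroup G) [Fintype H] {χ : G → ℂ} (hχ : IsCharacter G χ) :
    cm H 1 (fun x => conj (χ x)) = cm H 1 χ := by
  have h1 := cm_conj H (isCharacter_one (G := H)) hχ
  have h2 : (fun t : H => conj ((1 : H → ℂ) t)) = 1 := by
    funext t
    simp
  rwa [h2] at h1

theorem cm_one_self (H : Subgroup G) [Fintype H] : cm H 1 (1 : G → ℂ) = 1 := classInner_irr_self isIrr_one

theorem cmN_one_self (H : Subgroup G) [Fintype H] : cmN H 1 (1 : G → ℂ) = 1 := by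
  have h := cm_one_self H
  rw [cmN_spec H isCharacter_one isCharacter_one] at h
  exact_mod_cast h

theorem cm_ne_of_cmN {H : Subgroup G} [Fintype H] {ψ : H → ℂ} (hψ : IsCharacter H ψ) {χ : G → ℂ}
    (hχ : IsCharacter G χ) (h : ¬ 2 ∣ cmN H ψ χ) : cm H ψ χ ≠ 0 := by
  rw [cmN_spec H hψ hχ]
  have : cmN H ψ χ ≠ 0 := fun h1 => h (by rw [h1]; exact dvd_zero 2)
  exact_mod_cast this

/-- An odd degree constituent of a permutation character of even degree. -/
theorem exists_alpha (H : Subgroup G) [Fintype H] (hH : 2 ∣ H.index) :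
    ∃ χ : G → ℂ, OddIrr χ ∧ χ ≠ 1 ∧ cm H 1 χ ≠ 0 := by
  classical
  have hfin : Finite (IrrCharacter G) := finite_irr
  have := Fintype.ofFinite (IrrCharacter G)
  obtain ⟨⟨χ, hχi⟩, hne, hχ⟩ := exists_other (a := fun χ : IrrCharacter G => cmN H 1 χ * charDegree (χ : G → ℂ))
    (by rw [sum_cm_deg H (isCharacter_one (G := H))]; exact hH.mul_right _) (i := ⟨1, isIrr_one⟩) (by
      show ¬ 2 ∣ cmN H 1 (1 : G → ℂ) * charDegree (1 : G → ℂ)
      rw [cmN_one_self, one_mul, charDegree]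
      simp)
  obtain ⟨h2, h3⟩ := not_dvd_mul (show ¬ 2 ∣ cmN H 1 χ * charDegree χ from hχ)
  exact ⟨χ, ⟨hχi, h3⟩, fun h => hne (Subtype.ext h), cm_ne_of_cmN isCharacter_one (isIrr_isCharacter hχi) h2⟩

theorem Dat.evenU (D : Dat U B θ) : 2 ∣ U.index := D.even.trans (Subgroup.index_dvd_of_le D.le)

theorem five (D : Dat U B θ) {St α : G → ℂ} (hSt : OddIrr St) (hStr : ∀ x, (St x).im = 0) (hStθ : cm U (lf θ) St ≠ 0)
    (hStB : cm B 1 St ≠ 0) (hα : OddIrr α) (hα1 : α ≠ 1) (hαB : cm B 1 α ≠ 0) (hαθ : cm U (lf θ) α = 0)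
    (hαθ' : cm U (lf θ) (fun x => conj (α x)) = 0) : Odd5 G := by
  classical
  have hfin : Finite (IrrCharacter G) := finite_irr
  have := Fintype.ofFinite (IrrCharacter G)
  have hθc := isChar_lf θ
  have h1c : IsCharacter B (1 : B → ℂ) := isCharacter_one
  -- the trivial character
  have honeθ : cm U (lf θ) (1 : G → ℂ) = 0 := by
    have h2 : classInner (fun t : U => (θ t : ℂ)) (fun t : U => (1 : G → ℂ) t) = 0 := by
      refine classInner_irr_ne (Linear.isIrrCharacter_hom θ) isIrr_one fun h => D.ne ?_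
      ext t
      exact congrFun h t
    exact h2
  have honeB : cm B 1 (1 : G → ℂ) = 1 := cm_one_self B
  have hone : OddIrr (1 : G → ℂ) := ⟨isIrr_one, by rw [charDegree]; simp⟩
  -- multiplicities of `St`
  obtain ⟨-, hS1, hS2⟩ := unique_both U B hθc h1c D.one hSt.1 hSt.1 hStθ hStB hStθ hStB
  -- `ρ`
  have hsum := sum_cm_deg U hθc
  obtain ⟨⟨ρ, hρi⟩, hρne, hρ⟩ := exists_other
    (a := fun χ : IrrCharacter G => cmN U (lf θ) χ * charDegree (χ : G → ℂ))
    (by rw [hsum]; exact D.evenU.mul_right _) (i := ⟨St, hSt.1⟩) (by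
      show ¬ 2 ∣ cmN U (lf θ) St * charDegree St
      rw [hS1, one_mul]
      exact hSt.2)
  have hρSt : ρ ≠ St := fun h => hρne (Subtype.ext h)
  obtain ⟨hρ1, hρ2⟩ := not_dvd_mul (show ¬ 2 ∣ cmN U (lf θ) ρ * charDegree ρ from hρ)
  have hρodd : OddIrr ρ := ⟨hρi, hρ2⟩
  have hρθ : cm U (lf θ) ρ ≠ 0 := cm_ne_of_cmN hθc (isIrr_isCharacter hρi) hρ1
  have hρone : ρ ≠ 1 := fun h => hρθ (by rw [h]; exact honeθ)
  have hρα : ρ ≠ α := fun h => hρθ (by rw [h]; exact hαθ)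
  have hStone : St ≠ 1 := fun h => hStθ (by rw [h]; exact honeθ)
  have hαSt : α ≠ St := fun h => hStθ (by rw [← h]; exact hαθ)
  by_cases hreal : ∀ x, (ρ x).im = 0
  · -- `ρ` real
    obtain ⟨ψ, hψi, hψU, hψ2, hψρ⟩ := exists_odd_lift D.le D.norm D.odd (isIrr_isCharacter hρi) hreal hρ2
    have hψc := isIrr_isCharacter hψi
    have hψρ' : cm B ψ ρ ≠ 0 := cm_ne_of_cmN hψc (isIrr_isCharacter hρi) hψρ
    have hψ1 : ψ ≠ 1 := by
      rintro rfl
      exact hρSt (unique_both U B hθc h1c D.one hρi hSt.1 hρθ hψρ' hStθ hStB).1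
    obtain ⟨⟨ρ', hρ'i⟩, hρ'ne, hρ'⟩ := exists_other
      (a := fun χ : IrrCharacter G => cmN B ψ χ * charDegree (χ : G → ℂ))
      (by rw [sum_cm_deg B hψc]; exact D.even.mul_right _) (i := ⟨ρ, hρi⟩) (by
        show ¬ 2 ∣ cmN B ψ ρ * charDegree ρ
        rw [Nat.prime_two.dvd_mul]
        exact not_or.2 ⟨hψρ, hρ2⟩)
    obtain ⟨hρ'1, hρ'2⟩ := not_dvd_mul (show ¬ 2 ∣ cmN B ψ ρ' * charDegree ρ' from hρ')
    have hρ'f : cm B ψ ρ' ≠ 0 := cm_ne_of_cmN hψc (isIrr_isCharacter hρ'i) hρ'1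
    have hdis : ∀ χ : G → ℂ, IsIrrCharacter G χ → cm B 1 χ ≠ 0 → ρ' ≠ χ := by
      rintro χ hχ hc rfl
      exact hc (D.dis ψ hψi hψU hψ1 _ hχ hρ'f)
    have hρ'ρ : ρ' ≠ ρ := fun h => hρ'ne (Subtype.ext h)
    have n1 := hdis 1 isIrr_one (by rw [honeB]; exact one_ne_zero)
    have n2 := hdis St hSt.1 hStB
    have n3 := hdis α hα.1 hαB
    exact ⟨![1, St, α, ρ, ρ'], inj5 hStone.symm hα1.symm hρone.symm n1.symm hαSt.symm hρSt.symm n2.symm hρα.symm n3.symm
      hρ'ρ.symm, all5 hone hSt hα hρodd ⟨hρ'i, hρ'2⟩⟩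
  · -- `ρ` not real
    set ρ' : G → ℂ := fun x => conj (ρ x) with hρ'
    have hρ'i : IsIrrCharacter G ρ' := isIrr_conj hρi
    have hcc : ∀ {χ : G → ℂ}, ρ' = χ → ρ = fun x => conj (χ x) := by
      rintro χ rfl
      funext x
      simp [hρ']
    have hρ'2 : ¬ 2 ∣ charDegree ρ' := by
      have : charDegree ρ' = charDegree ρ := by
        obtain ⟨n, -, hn⟩ := isIrr_apply_one hρi
        have h3 : ρ' 1 = n := by
          show conj (ρ 1) = n
          rw [hn]
          simp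
        rw [charDegree, charDegree, h3, hn]
      rw [this]
      exact hρ2
    have n0 : ρ' ≠ ρ := by
      intro h
      apply hreal
      intro x
      exact Complex.conj_eq_iff_im.1 (congrFun h x)
    have n1 : ρ' ≠ 1 := fun h => hρone (by rw [hcc h]; funext x; simp)
    have n2 : ρ' ≠ St := fun h => hρSt (by
      rw [hcc h]
      funext x
      exact Complex.conj_eq_iff_im.2 (hStr x))
    have n3 : ρ' ≠ α := fun h => hρθ (by rw [hcc h]; exact hαθ')
    exact ⟨![1, St, α, ρ, ρ'], inj5 hStone.symm hα1.symm hρone.symm n1.symm hαSt.symm hρSt.symm n2.symm hρα.symm n3.symm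
      n0.symm, all5 hone hSt hα hρodd ⟨hρ'i, hρ'2⟩⟩

end

end Cfsg.Agent.H601.K4
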