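import Cfsg.Agent.H601.K4.Rgd
import Cfsg.Agent.H601.OddDeg.Idx
import Cfsg.Agent.H612.Sym
import Cfsg.Agent.H580.LieFam

/-!
# The groups of Lie type of odd characteristic: five odd degree characters (S4947; helper601)

* `odd5_of_edge` : `Odd5 G` from a root group datum of odd characteristic whose diagram has two nodes with `2 ∣ M j k`;
* `lie_edge` : the groups of Lie type of odd characteristic which have such a datum;
* `lie_odd` : all groups of Lie type of odd characteristic other than `PSL(2, q)`, `PSL(3, q)`, `PSU(3, q)`, `²G₂(q)`.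
-/

set_option autoImplicit false
set_option linter.unusedSectionVars false

namespace Cfsg.Agent.H601.K4

open Cfsg Cfsg.Agent.Omega.ML.Ex.Typ
open Cfsg.Agent.LieRecognition.BNCox (cA)
open Cfsg.Agent.Nodes.RGDChev

universe u

theorem Odd5.congr {S T : Type*} [Group S] [Group T] (e : S ≃* T) (h : Odd5 S) : Odd5 T := by
  obtain ⟨χ, h1, h2⟩ := h
  refine ⟨fun i x => χ i (e.symm x), fun i j hij => h1 ?_, fun i => ⟨?_, ?_⟩⟩
  · funext x
    have h3 := congrFun hij (e x)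
    simpa using h3
  · exact Characters.Core.isIrr_comp e.symm.toMonoidHom e.symm.surjective (h2 i).1
  · have h3 := (h2 i).2
    simpa [charDegree] using h3

section

variable {S : Type u} [Group S] [Finite S] [IsSimpleGroup S] {p : ℕ}

/-- a root group datum of characteristic `p` whose diagram has two nodes with `2 ∣ M j k` -/
def Edge (p : ℕ) (S : Type u) [Group S] : Prop :=
  ∃ (l : ℕ) (M : CoxeterMatrix (Fin l)) (j k : Fin l), j ≠ k ∧ 2 ∣ M j k ∧ HasRGDT p M S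

theorem odd5_of_edge (hp : p.Prime) (hp2 : p ≠ 2) {l : ℕ} {M : CoxeterMatrix (Fin l)} (h : HasRGDT p M S) {j k : Fin l}
    (hjk : j ≠ k) (h2 : 2 ∣ M j k) : Odd5 S :=
  odd5_of_rgdt hp hp2 h {j} ⟨j, rfl⟩ fun cs => OddDeg.Idx.index_single cs j hjk h2

omit [Finite S] [IsSimpleGroup S] in
theorem edge_A {n : ℕ} (hn : 3 ≤ n) (h : HasRGDT p (cA n) S) : Edge p S := by
  refine ⟨n, _, ⟨0, by omega⟩, ⟨2, by omega⟩, by simp, ?_, h⟩
  rw [LieRecognition.BNCox.cA_apply]
  unfold LieRecognition.CoxClass.mA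
  simp

omit [Finite S] [IsSimpleGroup S] in
theorem edge_B {n : ℕ} (hn : 2 ≤ n) (h : HasRGDT p (CoxeterMatrix.B n) S) : Edge p S := by
  refine ⟨n, _, ⟨n - 1, by omega⟩, ⟨n - 2, by omega⟩, by simp; omega, ?_, h⟩
  rw [H612.Sym.B_apply, if_neg (by simp; omega), if_pos (by simp)]
  norm_num

omit [Finite S] [IsSimpleGroup S] in
theorem edge_D {n : ℕ} (h : HasRGDT p (Nodes.TypeD.M (n + 1)) S) : Edge p S := by
  refine ⟨_, _, ⟨n + 1, by omega⟩, ⟨n + 2, by omega⟩, by simp, ?_, h⟩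
  rw [Nodes.TypeD.M_apply, if_neg (by simp), if_neg (by
    unfold Nodes.TypeD.Adj
    simp)]

omit [Finite S] [IsSimpleGroup S] in
theorem edge_F4 (h : HasRGDT p CoxeterMatrix.F₄ S) : Edge p S := ⟨_, _, 1, 2, by decide, by decide, h⟩

omit [Finite S] [IsSimpleGroup S] in
theorem edge_G2 (h : HasRGDT p CoxeterMatrix.G₂ S) : Edge p S := ⟨_, _, 0, 1, by decide, by decide, h⟩

omit [Finite S] [IsSimpleGroup S] in
theorem edge_E6 (h : HasRGDT p CoxeterMatrix.E₆ S) : Edge p S := ⟨_, _, 0, 1, by decide, by decide, h⟩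

omit [Finite S] [IsSimpleGroup S] in
theorem edge_E7 (h : HasRGDT p CoxeterMatrix.E₇ S) : Edge p S := ⟨_, _, 0, 1, by decide, by decide, h⟩

omit [Finite S] [IsSimpleGroup S] in
theorem edge_E8 (h : HasRGDT p CoxeterMatrix.E₈ S) : Edge p S := ⟨_, _, 0, 1, by decide, by decide, h⟩

/-- the exceptions -/
inductive SmallRank (S : Type u) [Group S] : Prop
  | psl {F : Type} [Field F] [Fintype F] {n : ℕ} (hn : n = 2 ∨ n = 3) (h2 : (2 : F) ≠ 0) (h4 : n = 2 → 4 ≤ Fintype.card F)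
      (e : S ≃* Matrix.ProjectiveSpecialLinearGroup (Fin n) F) : SmallRank S
  | psu {F : Type} [Field F] [Fintype F] {q : ℕ} (hF : Fintype.card F = q ^ 2) (h2 : (2 : F) ≠ 0) (e : S ≃* PSU 3 F q) :
      SmallRank S
  | ree (h : Lie.IsoRee S) : SmallRank S

omit [Finite S] [IsSimpleGroup S] in
/-- **The groups of Lie type of odd characteristic and their types.** -/
theorem lie_edge (hp : p.Prime) (hp2 : p ≠ 2) (h : IsLieTypeChar p S) : Edge p S ∨ SmallRank S := by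
  have : Fact p.Prime := ⟨hp⟩
  have htwo : ∀ {F : Type} [Field F] [CharP F p], (2 : F) ≠ 0 := by
    intro F _ _ h0
    have h1 : ((2 : ℕ) : F) = 0 := by exact_mod_cast h0
    rw [CharP.cast_eq_zero_iff F p] at h1
    exact hp2 ((Nat.prime_dvd_prime_iff_eq hp Nat.prime_two).1 h1)
  rcases h with h | h | h | h | h | h | h | h | ⟨h, -⟩ | ⟨h, -⟩ | ⟨-, h⟩
  · obtain ⟨F, _, _, _, n, hn, hn4, ⟨e⟩⟩ := h
    rcases Nat.lt_or_ge n 4 with h4 | h4
    · exact Or.inr (.psl (by omega) (htwo (F := F)) hn4 e)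
    · obtain ⟨m, rfl⟩ : ∃ m, n = m + 1 := ⟨n - 1, by omega⟩
      exact Or.inl (edge_A (by omega) ((typ_PSL m).of_equiv e.symm))
  · obtain ⟨F, _, _, _, m, hm, -, ⟨e⟩⟩ := h
    exact Or.inl (edge_B hm ((typ_PSp (by omega)).of_equiv e.symm))
  · obtain ⟨F, _, _, _, n, q, hF, hn, -, ⟨e⟩⟩ := h
    rcases Nat.lt_or_ge n 4 with h4 | h4
    · obtain rfl : n = 3 := by omega
      exact Or.inr (.psu hF (htwo (F := F)) e)
    · obtain ⟨m, hm, hR⟩ := typ_PSU (p := p) hF hn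
      exact Or.inl (edge_B (by omega) (hR.of_equiv e.symm))
  · obtain ⟨F, _, _, _, m, hm, -, ⟨e⟩⟩ := h
    exact Or.inl (edge_B (by omega) ((H580.LieFam.typ_PO_odd (htwo (F := F)) (by omega)).of_equiv e.symm))
  · obtain ⟨F, _, _, _, m, hm, ⟨e⟩⟩ := h
    obtain ⟨n, rfl⟩ : ∃ n, m = n + 3 := ⟨m - 3, by omega⟩
    exact Or.inl (edge_D ((typ_PO_plus n).of_equiv e.symm))
  · obtain ⟨F, _, _, _, m, a, b, hm, hab, ⟨e⟩⟩ := h
    exact Or.inl (edge_B (by omega) ((typ_PO_minus hab (by omega)).of_equiv e.symm))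
  · rcases typ_of_exc h with h | h | h | h | h
    · exact Or.inl (edge_G2 h)
    · exact Or.inl (edge_F4 h)
    · exact Or.inl (edge_E6 h)
    · exact Or.inl (edge_E7 h)
    · exact Or.inl (edge_E8 h)
  · obtain ⟨K, _, _, _, q, hq, ⟨hK, ⟨e⟩⟩ | ⟨hK, ⟨e⟩⟩⟩ := h
    · exact Or.inl (edge_F4 ((typ_twE6 hq hK p).of_equiv e.symm))
    · exact Or.inl (edge_G2 ((typ_twD4 hq hK p).of_equiv e.symm))
  · exact absurd h hp2
  · exact absurd h hp2
  · exact Or.inr (.ree h)

/-- **The groups of Lie type of odd characteristic.** -/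
theorem lie_odd (hp : p.Prime) (hp2 : p ≠ 2) (h : IsLieTypeChar p S) : Odd5 S ∨ SmallRank S := by
  rcases lie_edge hp hp2 h with ⟨l, M, j, k, hjk, h2, hS⟩ | h
  · exact Or.inl (odd5_of_edge hp hp2 hS hjk h2)
  · exact Or.inr h

end

end Cfsg.Agent.H601.K4
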