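import Cfsg.Agent.H601.K4.GoodEngine
import Cfsg.Agent.H601.K4.LieOdd
import Cfsg.Agent.H307.K4.Parity

/-!
# The groups of Lie type of odd characteristic: five good characters (S4547, S4925; helper601, with helper307)

* `good5_of_rgdt` : `Good5 G` from a root group datum of odd characteristic with `|W : W_J|` even for a nonempty `J`;
* `good_lie_odd` : all groups of Lie type of odd characteristic other than `PSL(2, q)`, `PSL(3, q)`, `PSU(3, q)`, `²G₂(q)`.
-/

set_option autoImplicit false
set_option linter.unusedSectionVars false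

namespace Cfsg.Agent.H601.K4

open Cfsg Cfsg.Agent.Omega.ML.Ex.Typ Cfsg.Agent.Characters Cfsg.Agent.Characters.Core

universe u

/-- **Five good characters.** -/
theorem good5_of_rgdt {l p : ℕ} {M : CoxeterMatrix (Fin l)} {G : Type u} [Group G] [Finite G] [IsSimpleGroup G]
    (hp : p.Prime) (hp2 : p ≠ 2) (hG : HasRGDT p M G) (J : Set (Fin l)) (hJ : J.Nonempty)
    (hidx : ∀ {W : Type u} [Group W] [Finite W] (cs : CoxeterSystem M W), 2 ∣ (Cfsg.Agent.Tits.Core.WJ cs J).index) :
    Good5 G := by
  classical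
  have := Fintype.ofFinite G
  obtain ⟨U, B, H, _, _, _, θ, St, D, hSt, hStr, hStθ, hStB', hBJ, heven, hStH⟩ := exists_dat hp hp2 hG J hJ hidx
  have hev : Even (Nat.card G) := even_iff_two_dvd.2 (heven.trans (Subgroup.index_dvd_card H))
  exact good5_of_dat D hSt hStr hStθ hStB' H hBJ heven hStH fun χ hinj hg a ha hodd =>
    H307.K4.good5_of_four hev U D.odd (Linear.isIrrCharacter_hom θ) hinj hg ha hodd

section

variable {S : Type u} [Group S] [Finite S] [IsSimpleGroup S] {p : ℕ}

theorem good5_of_edge (hp : p.Prime) (hp2 : p ≠ 2) (h : Edge p S) : Good5 S := by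
  obtain ⟨l, M, j, k, hjk, h2, hS⟩ := h
  exact good5_of_rgdt hp hp2 hS {j} ⟨j, rfl⟩ fun cs => OddDeg.Idx.index_single cs j hjk h2

/-- **The groups of Lie type of odd characteristic.** -/
theorem good_lie_odd (hp : p.Prime) (hp2 : p ≠ 2) (h : IsLieTypeChar p S) : Good5 S ∨ SmallRank S := by
  rcases lie_edge hp hp2 h with h | h
  · exact Or.inl (good5_of_edge hp hp2 h)
  · exact Or.inr h

end

end Cfsg.Agent.H601.K4
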