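import Cfsg.Agent.H601.K4.InvSmall

/-!
# Row (B) of S4547 for the groups of Lie type of odd characteristic (helper601)

* `lie_inv` : `GoodInv3 S` for all groups of Lie type of odd characteristic other than `PSL₂(q)`.
-/

set_option autoImplicit false
set_option linter.unusedSectionVars false

namespace Cfsg.Agent.H601.K4

open Cfsg Cfsg.Agent.Omega.ML.Ex.Typ
open Cfsg.Agent.LieRecognition.BNCox (cA)
open Cfsg.Agent.Nodes.RGDChev

universe u

variable {S : Type u} [Group S] [Finite S] [IsSimpleGroup S] {p : ℕ}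

theorem simple_of_equiv {K : Type*} [Group K] (e : S ≃* K) : IsSimpleGroup K := by
  have : Nontrivial K := e.symm.toEquiv.nontrivial
  exact IsSimpleGroup.isSimpleGroup_of_surjective e.toMonoidHom e.surjective

/-- **Three invariant good characters for the groups of Lie type of odd characteristic.** -/
theorem lie_inv (hp : p.Prime) (hp2 : p ≠ 2) (h : IsLieTypeChar p S) :
    GoodInv3 S ∨ ∃ (F : Type) (_ : Field F) (_ : Fintype F), (2 : F) ≠ 0 ∧ 4 ≤ Fintype.card F ∧ CharP F p ∧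
      Nonempty (S ≃* Matrix.ProjectiveSpecialLinearGroup (Fin 2) F) := by
  have : Fact p.Prime := ⟨hp⟩
  rcases h with h | h | h | h | h | h | h | h | ⟨h, -⟩ | ⟨h, -⟩ | ⟨-, h⟩
  · obtain ⟨F, _, _, _, n, hn, hn4, ⟨e⟩⟩ := h
    rcases Nat.lt_or_ge n 4 with h4 | h4
    · have h5 : n = 2 ∨ n = 3 := by omega
      rcases h5 with rfl | rfl
      · exact Or.inr ⟨F, _, _, two_ne_p hp2, hn4 rfl, inferInstance, ⟨e⟩⟩
      · have := simple_of_equiv e
        exact Or.inl ((goodInv3_psl3 hp hp2).congr e)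
    · obtain ⟨m, rfl⟩ : ∃ m, n = m + 1 := ⟨n - 1, by omega⟩
      exact Or.inl (inv_A hp hp2 (by omega) ((typ_PSL m).of_equiv e.symm))
  · obtain ⟨F, _, _, _, m, hm, -, ⟨e⟩⟩ := h
    have := simple_of_equiv e
    exact Or.inl ((goodInv3_psp hp hp2 hm).congr e)
  · obtain ⟨F, _, _, _, n, q, hF, hn, -, ⟨e⟩⟩ := h
    rcases Nat.lt_or_ge n 6 with h6 | h6
    · have h5 : n = 3 ∨ n = 4 ∨ n = 5 := by omega
      rcases h5 with rfl | rfl | rfl
      · have := simple_of_equiv e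
        exact Or.inl ((goodInv3_psu3 hp hp2 hF).congr e)
      · exact Or.inl (goodInv3_of_labT hp hp2 (by decide) ((H809.LabPSU.lab_psu4 hF hp2).of_equiv e.symm))
      · exact Or.inl (goodInv3_of_labT hp hp2 (by decide) ((H809.LabPSU.lab_psu5 hF hp2).of_equiv e.symm))
    · obtain ⟨m, hm, hR⟩ := typ_PSU (p := p) hF hn
      exact Or.inl (inv_B hp hp2 (by omega) (hR.of_equiv e.symm))
  · obtain ⟨F, _, _, _, m, hm, -, ⟨e⟩⟩ := h
    exact Or.inl (inv_B hp hp2 hm ((H580.LieFam.typ_PO_odd (two_ne_p (F := F) hp2) (by omega)).of_equiv e.symm))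
  · obtain ⟨F, _, _, _, m, hm, ⟨e⟩⟩ := h
    obtain ⟨n, rfl⟩ : ∃ n, m = n + 3 := ⟨m - 3, by omega⟩
    exact Or.inl (inv_D hp hp2 (by omega) ((typ_PO_plus n).of_equiv e.symm))
  · obtain ⟨F, _, _, _, m, a, b, hm, hab, ⟨e⟩⟩ := h
    exact Or.inl (inv_B hp hp2 (by omega) ((typ_PO_minus hab (by omega)).of_equiv e.symm))
  · obtain ⟨F, _, _, _, ⟨-, ⟨e⟩⟩ | ⟨⟨e⟩⟩ | ⟨⟨e⟩⟩ | ⟨⟨e⟩⟩ | ⟨⟨e⟩⟩⟩ := h
    · have : IsSimpleGroup (H490.G2.K F) := simple_of_equiv e
      exact Or.inl ((goodInv3_g2 hp hp2).congr e)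
    · exact Or.inl (inv_F4 hp hp2 ((typ_group (by simp [IsType, typeList]) F p).of_equiv e.symm))
    · exact Or.inl (inv_E6 hp hp2 ((typ_group (by simp [IsType, typeList]) F p).of_equiv e.symm))
    · exact Or.inl (inv_E7 hp hp2 ((typ_group (by simp [IsType, typeList]) F p).of_equiv e.symm))
    · exact Or.inl (inv_E8 hp hp2 ((typ_group (by simp [IsType, typeList]) F p).of_equiv e.symm))
  · obtain ⟨K, _, _, _, q, hq, ⟨hK, ⟨e⟩⟩ | ⟨hK, ⟨e⟩⟩⟩ := h
    · exact Or.inl (inv_F4 hp hp2 ((typ_twE6 hq hK p).of_equiv e.symm))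
    · exact Or.inl (goodInv3_of_labT hp hp2 (by decide) ((H809.LabTwD4.lab_twD4 hq hK p).of_equiv e.symm))
  · exact absurd h hp2
  · exact absurd h hp2
  · exact Or.inl (goodInv3_ree h)

end Cfsg.Agent.H601.K4
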