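import Cfsg.Agent.H601.K4.InvOdd
import Cfsg.Agent.H601.K4.InvClass
import Cfsg.Agent.H137.K4.ReeInv
import Cfsg.Agent.H245.DG.GTwoAut
import Cfsg.Agent.H198.SympGamma
import Cfsg.Agent.ClassicalGeometry.AutPSL.SylowU
import Cfsg.Agent.ClassicalGeometry.PSUAutSylow
import Cfsg.Agent.LieClassical.HermGen

/-!
# Three invariant good characters: `PSL₃(q)`, `PSU₃(q)`, `PSp_{2m}(q)`, `G₂(q)`, `²G₂(q)`, `q` odd (S4547; helper601)
-/

set_option autoImplicit false
set_option linter.unusedSectionVars false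

namespace Cfsg.Agent.H601.K4

open Cfsg Cfsg.Agent.Omega.ML.Ex.Typ

universe u

theorem two_ne_p {F : Type} [Field F] {p : ℕ} [CharP F p] (hp2 : p ≠ 2) : (2 : F) ≠ 0 := by
  intro h
  have h1 : p ∣ 2 := (CharP.cast_eq_zero_iff F p 2).1 (by exact_mod_cast h)
  rcases (Nat.dvd_prime Nat.prime_two).1 h1 with h2 | h2
  · subst h2
    exact CharP.ringChar_ne_one (R := F) ((CharP.eq F (ringChar.charP F) inferInstance))
  · exact hp2 h2

/-! ### `²G₂(q)` -/

theorem goodInv3_ree {S : Type u} [Group S] (h : Lie.IsoRee S) : GoodInv3 S := by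
  obtain ⟨χ, h1, h2⟩ := H137.K4.good5_ree h
  intro φ hφ
  obtain ⟨s, hs⟩ := H137.K4.inner_ree h φ hφ
  refine ⟨fun i => χ (Fin.castLE (by norm_num) i), fun i j hij => by simpa using h1 hij, fun i => ⟨h2 _, fun x => ?_⟩⟩
  rw [hs]
  exact Characters.Core.isIrr_isClassFunction (h2 _).odd.1 x s

/-! ### `G₂(q)` -/

section G2

open Cfsg.Lie Cfsg.Agent.ChevalleyStructure.Elts Cfsg.Agent.Schreier.ChevLocal
open Cfsg.Agent.H70.ChevFix Cfsg.Agent.H70.ChevField Cfsg.Agent.H70.OutCount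
open Cfsg.Agent.H490.G2 Cfsg.Agent.H245.DG.G2

variable {F : Type} [Field F] [Fintype F] {p : ℕ} [CharP F p]

omit [Fintype F] [CharP F p] in
theorem xe_pow (r : ℕ) (t : F) (n : ℕ) : xe hD r t ^ n = xe hD r (n * t) := by
  induction n with
  | zero => rw [pow_zero, Nat.cast_zero, zero_mul, xe_zero]
  | succ n ih => rw [pow_succ, ih, ← xe_add]; push_cast; ring_nf

omit [Fintype F] [CharP F p] in
theorem xe_mem_UU (i : Fin chevG2.rank) (t : F) : xe hD (chevG2.simple i) t ∈ UU chevG2 F := by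
  obtain ⟨-, h2⟩ := S1045.result (F := F) chevG2 hD i i.2
  show xG hD (chevG2.simple i) t ∈ chevG2.posUnipotent F
  rw [← h2]
  exact Subgroup.mem_sup_right (xG_mem_rootSubgroup hD _ _)

theorem goodInv3_g2 (hp : p.Prime) (hp2 : p ≠ 2) [IsSimpleGroup (K F)] : GoodInv3 (K F) := by
  classical
  have : Fact p.Prime := ⟨hp⟩
  have h2 : (2 : F) ≠ 0 := two_ne_p hp2
  have hR : HasRGDT p CoxeterMatrix.G₂ (K F) := typ_group (by simp [Nodes.RGDChev.IsType, Nodes.RGDChev.typeList]) F p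
  have hq : 3 ≤ Nat.card F := by
    have h3 : Nat.card F ≠ 0 := Nat.card_pos.ne'
    have h4 : Nat.card F ≠ 1 := Finite.one_lt_card.ne'
    have h5 : Nat.card F ≠ 2 := by
      intro h5
      have h6 : ((Nat.card F : ℕ) : F) = 0 := by rw [Nat.card_eq_fintype_card]; exact FiniteField.cast_card_eq_zero F
      rw [h5] at h6
      exact h2 (by exact_mod_cast h6)
    omega
  by_cases h3 : (3 : F) = 0
  · have hp3 : p = 3 := by
      have h4 : p ∣ 3 := (CharP.cast_eq_zero_iff F p 3).1 (by exact_mod_cast h3)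
      exact (Nat.prime_dvd_prime_iff_eq hp Nat.prime_three).1 h4
    subst hp3
    obtain ⟨ρ, hρ⟩ := exists_graph (F := F)
    refine goodInv3_of_class hp hp2 0 hR (x := xe hD 7 1 * xe hD 6 1) ?_ ?_ fun τ _ => ?_
    · have h4 : xe hD 7 (1 : F) * xe hD 6 1 ∈ UU chevG2 F := by
        have h5 := xe_mem_UU (F := F) (0 : Fin 2) 1
        have h6 := xe_mem_UU (F := F) (1 : Fin 2) 1
        rw [show chevG2.simple ((0 : Fin 2) : ℕ) = 7 from s0] at h5
        rw [show chevG2.simple ((1 : Fin 2) : ℕ) = 6 from s1] at h6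
        exact mul_mem h5 h6
      obtain ⟨m, hm⟩ := Schreier.ChevSch.isPGroup_UU (F := F) hD (p := 3) ⟨_, h4⟩
      exact ⟨m, congrArg Subtype.val hm⟩
    · intro h4
      have h5 : xe hD 7 (1 : F) = xe hD 6 (-1) := by
        rw [xe_neg]
        exact eq_inv_of_mul_eq_one_left h4
      have h6 := comm_opp (F := F) hD (i := (1 : Fin 2)) (j := (0 : Fin 2))
        (fun h => absurd (congrArg Fin.val h) Nat.one_ne_zero) (-1) (-1)
      have h7 := not_comm_self (F := F) hD (0 : Fin 2)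
      apply h7
      rw [show chevG2.simple ((1 : Fin 2) : ℕ) = 6 from s1] at h6
      rw [show chevG2.simple ((0 : Fin 2) : ℕ) = 7 from s0] at h6 ⊢
      rw [h5]
      exact h6
    · obtain ⟨g, σ, α, hα, h4 | h4⟩ := aut_three hρ τ
      · refine ⟨g, ?_⟩
        rw [h4, MulAut.mul_apply, MulAut.conj_apply, map_mul, hα 7 (by norm_num), hα 6 (by norm_num), map_one]
      · refine ⟨g * (xe hD 7 1)⁻¹, ?_⟩
        rw [h4, MulAut.mul_apply, MulAut.conj_apply, MulAut.mul_apply, map_mul, hα 7 (by norm_num), hα 6 (by norm_num),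
          map_one, map_mul, hρ.h7, hρ.h6, one_pow]
        group
  · refine goodInv3_of_class hp hp2 0 hR (x := xe hD 7 1) ⟨1, ?_⟩ ?_ fun τ _ => ?_
    · rw [xe_pow, pow_one, CharP.cast_eq_zero, zero_mul, xe_zero]
    · intro h4
      exact one_ne_zero (xe_eq_one hD (by decide +kernel) h4)
    · obtain ⟨g, σ, α, hα, h4⟩ := aut_three_ne h3 hq τ
      refine ⟨g, ?_⟩
      rw [h4, MulAut.mul_apply, MulAut.conj_apply, hα 7 (by norm_num), map_one]

end G2

/-! ### `PSL₃(q)` -/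

section PSL

open Matrix Cfsg.Agent.ClassicalGeometry.AutPSL.SylowU Cfsg.Agent.ClassicalGeometry.AutPSL.Root
open Cfsg.Agent.ClassicalGeometry.AutPSL.Auto Cfsg.Agent.ClassicalGeometry.AutPSL.Frame

variable {F : Type} [Field F] [Fintype F] {p : ℕ} [CharP F p]

theorem goodInv3_psl3 (hp : p.Prime) (hp2 : p ≠ 2) [IsSimpleGroup (Matrix.ProjectiveSpecialLinearGroup (Fin 3) F)] :
    GoodInv3 (Matrix.ProjectiveSpecialLinearGroup (Fin 3) F) := by
  classical
  have : Fact p.Prime := ⟨hp⟩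
  have h0 : (0 : Fin 3) < 2 := Fin.mk_lt_mk.2 (by norm_num)
  have hi0 : ∀ i : Fin 3, 0 ≤ i := Fin.zero_le
  have hj0 : ∀ i : Fin 3, i ≤ 2 := fun i => Fin.le_def.2 (by
    have h1 : ((2 : Fin 3) : ℕ) = 2 := rfl
    omega)
  have hx1 : (pr (SpecialLinearGroup.transvection h0.ne (1 : F)) : Matrix.ProjectiveSpecialLinearGroup (Fin 3) F) ≠ 1 := by
    intro h
    have h1 := pr_injOn_upper (transvection_mem_upper h0 (1 : F)) (one_mem (upper 3 F)) (by rw [h, map_one])
    have h2 := congrArg (fun g : SpecialLinearGroup (Fin 3) F => (g : Matrix (Fin 3) (Fin 3) F) 0 2) h1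
    have h3 : ((1 : Matrix (Fin 3) (Fin 3) F) + single (0 : Fin 3) (2 : Fin 3) (1 : F) : Matrix (Fin 3) (Fin 3) F) 0 2 =
      (1 : Matrix (Fin 3) (Fin 3) F) 0 2 := h2
    simp at h3
  refine goodInv3_of_class hp hp2 (0 : Fin 2) (typ_PSL 2 (p := p))
    (x := pr (SpecialLinearGroup.transvection h0.ne (1 : F))) ?_ hx1 fun τ _ => ?_
  · obtain ⟨S, hS⟩ := exists_sylow (F := F) 3 p
    have h1 : (pr (SpecialLinearGroup.transvection h0.ne (1 : F)) : Matrix.ProjectiveSpecialLinearGroup (Fin 3) F) ∈ S := by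
      have h2 : (pr (SpecialLinearGroup.transvection h0.ne (1 : F)) : Matrix.ProjectiveSpecialLinearGroup (Fin 3) F) ∈
          (upper 3 F).map pr := ⟨_, transvection_mem_upper h0 (1 : F), rfl⟩
      rw [← hS] at h2
      exact h2
    obtain ⟨m, hm⟩ := S.2 ⟨_, h1⟩
    exact ⟨m, congrArg Subtype.val hm⟩
  · obtain ⟨h, hh⟩ := exists_conj_transvection p h0 hi0 hj0 τ
    obtain ⟨s, hs⟩ := hh 1
    have hs0 : s ≠ 0 := by
      rintro rfl
      apply hx1
      apply τ.injective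
      rw [hs, map_one]
      have h1 : (SpecialLinearGroup.transvection h0.ne (0 : F)) = 1 := by
        apply Subtype.ext
        show (1 : Matrix (Fin 3) (Fin 3) F) + single 0 2 0 = 1
        simp
      rw [h1, mul_one, mul_inv_cancel, map_one]
    let D : SpecialLinearGroup (Fin 3) F := ⟨diagonal ![s, s⁻¹, 1], by
      rw [det_diagonal, Fin.prod_univ_three]
      simp [hs0]⟩
    have hD : D * SpecialLinearGroup.transvection h0.ne (1 : F) * D⁻¹ = SpecialLinearGroup.transvection h0.ne s := by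
      rw [mul_inv_eq_iff_eq_mul]
      apply Subtype.ext
      show diagonal ![s, s⁻¹, 1] * ((1 : Matrix (Fin 3) (Fin 3) F) + single 0 2 1) =
        ((1 : Matrix (Fin 3) (Fin 3) F) + single 0 2 s) * diagonal ![s, s⁻¹, 1]
      ext i j
      rw [diagonal_mul, mul_diagonal]
      fin_cases i <;> fin_cases j <;> simp
    refine ⟨pr (h * D), ?_⟩
    rw [hs, ← hD, ← map_inv, ← map_mul, ← map_mul]
    congr 1
    group

end PSL

/-! ### `PSp_{2m}(q)` -/

section PSp

open Matrix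

variable {F : Type} [Field F] {m : ℕ}

/-- the short root elements -/
def shm (i j : Fin m) (t : F) : Matrix (Fin m ⊕ Fin m) (Fin m ⊕ Fin m) F :=
  fromBlocks (transvection i j t) 0 0 (transvection j i (-t))

theorem shm_mul {i j : Fin m} (hij : i ≠ j) (s t : F) : shm i j s * shm i j t = shm i j (s + t) := by
  unfold shm
  rw [fromBlocks_multiply]
  simp only [mul_zero, zero_mul, add_zero, zero_add]
  rw [transvection_mul_transvection_same _ _ hij, transvection_mul_transvection_same _ _ hij.symm, ← neg_add]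

theorem shm_zero {i j : Fin m} : shm i j (0 : F) = 1 := by
  unfold shm
  rw [neg_zero, transvection_zero, transvection_zero, fromBlocks_one]

theorem shm_mem {i j : Fin m} (hij : i ≠ j) (t : F) : shm i j t ∈ symplecticGroup (Fin m) F := by
  have h1 : (transvection j i (-t))ᵀ = transvection i j (-t) := by
    unfold transvection
    rw [transpose_add, transpose_one, transpose_single]
  have h2 : (transvection i j t)ᵀ = transvection j i t := by
    unfold transvection
    rw [transpose_add, transpose_one, transpose_single]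
  rw [SymplecticGroup.mem_iff]
  unfold shm J
  rw [fromBlocks_transpose, h1, h2, fromBlocks_multiply, fromBlocks_multiply]
  simp only [mul_zero, zero_mul, add_zero, zero_add, mul_neg, mul_one, transpose_zero, neg_mul]
  rw [transvection_mul_transvection_same _ _ hij, transvection_mul_transvection_same _ _ hij.symm]
  simp

/-- the short root elements -/
def sh {i j : Fin m} (hij : i ≠ j) (t : F) : symplecticGroup (Fin m) F := ⟨shm i j t, shm_mem hij t⟩

theorem sh_pow {i j : Fin m} (hij : i ≠ j) (t : F) (n : ℕ) : sh hij t ^ n = sh hij (n * t) := by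
  induction n with
  | zero =>
    rw [pow_zero, Nat.cast_zero, zero_mul]
    exact Subtype.ext shm_zero.symm
  | succ n ih =>
    rw [pow_succ, ih]
    apply Subtype.ext
    show shm i j _ * shm i j _ = shm i j _
    rw [shm_mul hij]
    push_cast
    ring_nf

theorem map_shm (σ : F ≃+* F) (i j : Fin m) : (shm i j (1 : F)).map σ = shm i j 1 := by
  unfold shm
  rw [fromBlocks_map]
  have h1 : ∀ (a b : Fin m) (c : F), (transvection a b c).map σ = transvection a b (σ c) := by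
    intro a b c
    unfold transvection
    ext k l
    simp only [map_apply, Matrix.add_apply, map_add, single_apply, one_apply, apply_ite σ, map_one, map_zero]
  rw [h1, h1, map_neg, map_one]
  simp

/-- the similitude -/
def simd (m : ℕ) (l : F) : Matrix (Fin m ⊕ Fin m) (Fin m ⊕ Fin m) F := fromBlocks 1 0 0 (l • (1 : Matrix (Fin m) (Fin m) F))

theorem simd_mul (a b : F) : simd m a * simd m b = simd m (a * b) := by
  unfold simd
  rw [fromBlocks_multiply]
  simp [smul_smul, mul_comm]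

theorem simd_comm (l : F) (i j : Fin m) (t : F) : simd m l * shm i j t = shm i j t * simd m l := by
  unfold simd shm
  rw [fromBlocks_multiply, fromBlocks_multiply]
  simp

theorem simd_J (l : F) : (simd m l)ᵀ * J (Fin m) F * simd m l = l • J (Fin m) F := by
  unfold simd J
  rw [fromBlocks_transpose, fromBlocks_multiply, fromBlocks_multiply, fromBlocks_smul]
  simp

variable [Fintype F] {p : ℕ} [CharP F p]

theorem goodInv3_psp (hp : p.Prime) (hp2 : p ≠ 2) (hm : 2 ≤ m) [IsSimpleGroup (PSp m F)] : GoodInv3 (PSp m F) := by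
  classical
  have : Fact p.Prime := ⟨hp⟩
  have h2 : (2 : F) ≠ 0 := two_ne_p hp2
  have hij : (⟨0, by omega⟩ : Fin m) ≠ ⟨1, by omega⟩ := by simp
  refine goodInv3_of_class hp hp2 (⟨0, by omega⟩ : Fin m) (typ_PSp (p := p) (by omega))
    (x := (QuotientGroup.mk (sh hij (1 : F)) : PSp m F)) ⟨1, ?_⟩ ?_ fun τ _ => ?_
  · rw [← QuotientGroup.mk_pow, pow_one, sh_pow, CharP.cast_eq_zero, zero_mul]
    have h3 : sh hij (0 : F) = 1 := Subtype.ext shm_zero
    rw [h3]
    rfl
  · intro h3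
    have h4 : sh hij (1 : F) ∈ Subgroup.center (symplecticGroup (Fin m) F) := (QuotientGroup.eq_one_iff _).1 h3
    have h5 := Subgroup.mem_center_iff.1 h4 ⟨J (Fin m) F, SymplecticGroup.J_mem _ _⟩
    have h6 : J (Fin m) F * shm ⟨0, by omega⟩ ⟨1, by omega⟩ 1 = shm ⟨0, by omega⟩ ⟨1, by omega⟩ 1 * J (Fin m) F :=
      congrArg Subtype.val h5
    have h7 := congrFun (congrFun h6 (Sum.inl ⟨0, by omega⟩)) (Sum.inr ⟨1, by omega⟩)
    unfold J shm at h7
    rw [fromBlocks_multiply, fromBlocks_multiply] at h7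
    simp [transvection] at h7
  · obtain ⟨A, σ, ⟨l, hl⟩, hind⟩ := H198.SympGamma.exists_pair (F := F) hm (Or.inr h2) τ
    have hl0 : (l : F) ≠ 0 := l.ne_zero
    have hA : (A : Matrix (Fin m ⊕ Fin m) (Fin m ⊕ Fin m) F)ᵀ * J (Fin m) F * (A : Matrix (Fin m ⊕ Fin m) (Fin m ⊕ Fin m) F) =
        (l : F) • J (Fin m) F := by
      ext i j
      have h3 := hl (Pi.single i 1) (Pi.single j 1)
      have h4 : Pi.single i 1 ⬝ᵥ (((A : Matrix (Fin m ⊕ Fin m) (Fin m ⊕ Fin m) F)ᵀ * J (Fin m) F *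
          (A : Matrix (Fin m ⊕ Fin m) (Fin m ⊕ Fin m) F)) *ᵥ Pi.single j (1 : F)) =
          Pi.single i 1 ⬝ᵥ (((l : F) • J (Fin m) F) *ᵥ Pi.single j (1 : F)) := by
        rw [smul_mulVec, dotProduct_smul, smul_eq_mul]
        unfold sympForm at h3
        rw [← h3, ← mulVec_mulVec, ← mulVec_mulVec, dotProduct_mulVec _ (A : Matrix (Fin m ⊕ Fin m) (Fin m ⊕ Fin m) F)ᵀ,
          vecMul_transpose]
      simpa using h4
    set S : Matrix (Fin m ⊕ Fin m) (Fin m ⊕ Fin m) F := (A : Matrix (Fin m ⊕ Fin m) (Fin m ⊕ Fin m) F) * simd m (l : F)⁻¹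
      with hS
    have hSm : S ∈ symplecticGroup (Fin m) F := by
      rw [SymplecticGroup.mem_iff', hS, transpose_mul]
      calc (simd m (l : F)⁻¹)ᵀ * (A : Matrix (Fin m ⊕ Fin m) (Fin m ⊕ Fin m) F)ᵀ * J (Fin m) F *
            ((A : Matrix (Fin m ⊕ Fin m) (Fin m ⊕ Fin m) F) * simd m (l : F)⁻¹)
          = (simd m (l : F)⁻¹)ᵀ * ((A : Matrix (Fin m ⊕ Fin m) (Fin m ⊕ Fin m) F)ᵀ * J (Fin m) F *
            (A : Matrix (Fin m ⊕ Fin m) (Fin m ⊕ Fin m) F)) * simd m (l : F)⁻¹ := by simp only [mul_assoc]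
        _ = J (Fin m) F := by
            rw [hA, mul_smul_comm, smul_mul_assoc, simd_J, smul_smul, mul_inv_cancel₀ hl0, one_smul]
    have hAS : (A : Matrix (Fin m ⊕ Fin m) (Fin m ⊕ Fin m) F) = S * simd m (l : F) := by
      rw [hS, mul_assoc, simd_mul, inv_mul_cancel₀ hl0]
      have h3 : simd m (1 : F) = 1 := by
        unfold simd
        rw [one_smul, fromBlocks_one]
      rw [h3, mul_one]
    set s : symplecticGroup (Fin m) F := ⟨S, hSm⟩ with hs
    refine ⟨QuotientGroup.mk s, ?_⟩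
    have h3 := hind (sh hij (1 : F)) (s * sh hij 1 * s⁻¹) (by
      have h4 : (sh hij (1 : F) : Matrix (Fin m ⊕ Fin m) (Fin m ⊕ Fin m) F) = shm ⟨0, by omega⟩ ⟨1, by omega⟩ 1 := rfl
      have h5 : (((s⁻¹ : symplecticGroup (Fin m) F) : Matrix (Fin m ⊕ Fin m) (Fin m ⊕ Fin m) F)) * S = 1 :=
        congrArg Subtype.val (inv_mul_cancel s)
      have h6 : (A : Matrix (Fin m ⊕ Fin m) (Fin m ⊕ Fin m) F) * ((A⁻¹ : GL (Fin m ⊕ Fin m) F) : Matrix _ _ F) = 1 := by
        rw [← Units.val_mul, mul_inv_cancel, Units.val_one]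
      rw [h4, map_shm]
      set X : Matrix (Fin m ⊕ Fin m) (Fin m ⊕ Fin m) F := shm ⟨0, by omega⟩ ⟨1, by omega⟩ 1 with hX
      show S * X * ((s⁻¹ : symplecticGroup (Fin m) F) : Matrix (Fin m ⊕ Fin m) (Fin m ⊕ Fin m) F) = _
      calc S * X * ((s⁻¹ : symplecticGroup (Fin m) F) : Matrix (Fin m ⊕ Fin m) (Fin m ⊕ Fin m) F)
          = S * X * ((s⁻¹ : symplecticGroup (Fin m) F) : Matrix (Fin m ⊕ Fin m) (Fin m ⊕ Fin m) F) *
            ((A : Matrix (Fin m ⊕ Fin m) (Fin m ⊕ Fin m) F) * ((A⁻¹ : GL (Fin m ⊕ Fin m) F) : Matrix _ _ F)) := by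
            rw [h6, mul_one]
        _ = S * X * (((s⁻¹ : symplecticGroup (Fin m) F) : Matrix (Fin m ⊕ Fin m) (Fin m ⊕ Fin m) F) * S) *
            simd m (l : F) * ((A⁻¹ : GL (Fin m ⊕ Fin m) F) : Matrix _ _ F) := by
            rw [hAS]
            simp only [mul_assoc]
        _ = _ := by
            rw [h5, mul_one, mul_assoc S, hX, ← simd_comm, ← mul_assoc S, ← hAS])
    exact h3

end PSp

/-! ### `PSU₃(q)` -/

section PSU

open Matrix Cfsg.Agent.LieClassical.HermBasic Cfsg.Agent.LieClassical.HermSiegel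
open Cfsg.Agent.ClassicalGeometry.PSUAutBasic Cfsg.Agent.ClassicalGeometry.PSUAutSylow

variable {F : Type} [Field F] [Fintype F] {q n : ℕ}

/-- all unitary transvections are conjugate -/
theorem exists_conj_transv (hF : Fintype.card F = q ^ 2) (hn : 3 ≤ n) {u v : Fin n → F} (hu0 : u ≠ 0) (hv0 : v ≠ 0)
    (hu : hermForm n F q u u = 0) (hv : hermForm n F q v v = 0) {μ ν : F} (hμ0 : μ ≠ 0) (hν0 : ν ≠ 0)
    (hμ : μ + μ ^ q = 0) (hν : ν + ν ^ q = 0) :
    ∃ g : SU n F q, transv hF v hv ν hν = g * transv hF u hu μ hμ * g⁻¹ := by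
  obtain ⟨c, hc0, hc⟩ := exists_norm_eq_ne hF (c := μ / ν) (by
    have h1 : μ ^ q = -μ := by linear_combination hμ
    have h2 : ν ^ q = -ν := by linear_combination hν
    rw [div_pow, h1, h2, neg_div_neg_eq]) (div_ne_zero hμ0 hν0)
  have hcu : hermForm n F q (c • u) (c • u) = 0 := by
    rw [herm_smul_left, herm_smul_right, hu, mul_zero, mul_zero]
  obtain ⟨g, -, hg⟩ := LieClassical.HermGen.exists_map_iso hF hn le_rfl
    (LieClassical.HermGen.mem_coordSub_top (c • u)) (LieClassical.HermGen.mem_coordSub_top v)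
    (smul_ne_zero hc0 hu0) hv0 hcu hv
  refine ⟨g, ?_⟩
  rw [eq_mul_inv_iff_mul_eq]
  apply ext_act
  intro x
  rw [act_mul, act_mul, act_transv, act_transv, act_add, ← hg, herm_act, herm_smul_right, act_smul, act_smul, smul_smul]
  congr 2
  have h3 : μ = ν * (c * c ^ q) := by rw [hc]; field_simp
  rw [h3]
  ring

theorem goodInv3_psu3 {p : ℕ} [CharP F p] (hp : p.Prime) (hp2 : p ≠ 2) (hF : Fintype.card F = q ^ 2)
    [IsSimpleGroup (PSU 3 F q)] : GoodInv3 (PSU 3 F q) := by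
  classical
  have : Fact p.Prime := ⟨hp⟩
  obtain ⟨m, hm, hR⟩ := typ_PSU (p := p) hF (le_refl 3)
  obtain ⟨μ, hμ0, hμ⟩ := exists_trace_zero_ne hF
  obtain ⟨S⟩ : Nonempty (Sylow p (SU 3 F q)) := inferInstance
  obtain ⟨u, hu0, hu, -⟩ := exists_fixed p hF (by norm_num) S.isPGroup'
  have hpow : ∀ (v : Fin 3 → F) (hv : hermForm 3 F q v v = 0) (ν : F) (hν : ν + ν ^ q = 0),
      ∃ k : ℕ, transv hF v hv ν hν ^ p ^ k = 1 := by
    intro v hv ν hν
    obtain ⟨k, -, hk⟩ := FiniteField.card F p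
    refine ⟨k, ?_⟩
    rw [← hk]
    exact siegel_pow_card hF _
  have hne : ∀ (v : Fin 3 → F) (hv0 : v ≠ 0) (hv : hermForm 3 F q v v = 0) (ν : F) (hν : ν + ν ^ q = 0),
      ν ≠ 0 → transv hF v hv ν hν ≠ 1 := by
    intro v hv0 hv ν hν hν0 h
    apply hν0
    obtain ⟨f, -, -, hf⟩ := exists_partner hF hv0 hv
    have h1 := act_transv hF hv hν f
    rw [h, act_one, hf, mul_one] at h1
    have h2 : ν • v = 0 := by
      have h3 : f + 0 = f + ν • v := by rw [add_zero]; exact h1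
      exact (add_left_cancel h3).symm
    exact (smul_eq_zero.1 h2).resolve_right hv0
  obtain ⟨k, hk⟩ := hpow u hu μ hμ
  have hx1 : pr 3 F q (transv hF u hu μ hμ) ≠ 1 := by
    intro h
    exact hne u hu0 hu μ hμ hμ0 (eq_of_pr_eq hF le_rfl hk (l := 0) (by rw [pow_zero, pow_one]) (by rw [h, map_one]))
  refine goodInv3_of_class hp hp2 (⟨0, by omega⟩ : Fin m) hR (x := pr 3 F q (transv hF u hu μ hμ)) ⟨k, ?_⟩ hx1
    fun τ _ => ?_
  · rw [← map_pow, hk, map_one]
  · obtain ⟨v, hv0, hv, hmap⟩ := exists_map_RR hF le_rfl τ hu0 hu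
    have h1 : τ (pr 3 F q (transv hF u hu μ hμ)) ∈ RR hF v hv := by
      rw [← hmap]
      exact ⟨_, mem_RR.2 ⟨μ, hμ, rfl⟩, rfl⟩
    obtain ⟨ν, hν, h2⟩ := mem_RR.1 h1
    have hν0 : ν ≠ 0 := by
      rintro rfl
      apply hx1
      apply τ.injective
      rw [h2, transv_zero, map_one, map_one]
    obtain ⟨g, hg⟩ := exists_conj_transv hF le_rfl hu0 hv0 hu hv hμ0 hν0 hμ hν
    refine ⟨pr 3 F q g, ?_⟩
    rw [h2, hg, map_mul, map_mul, map_inv]

end PSU

end Cfsg.Agent.H601.K4
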