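import Cfsg.Agent.H601.K4.Defs
import Cfsg.Agent.H601.OddDeg.Perm
import Cfsg.Agent.OddOrderCharacters.Clifford
import Cfsg.Agent.Characters.GaloisBasic
import Cfsg.Agent.Characters.Central
import Cfsg.Agent.Characters.Linear

/-!
# Multiplicities of characters of subgroups (S4947, S4547; helper601)

* `cm H ψ χ` : the multiplicity of the character `ψ` of `H` in `χ`, `cmN` the natural number;
* `sum_cm_mul` : Parseval for two induced characters;
* `sum_cm_deg` : the degree of an induced character;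
* `ker_of_sum` : a normal subgroup with nonzero fixed points is in the kernel of an irreducible character;
* `exists_odd_lift` : `U ≤ B` normal of odd order, `χ` real of odd degree: an irreducible character of `B / U` of odd
  degree with odd multiplicity in `χ`;
* `inner_zero`, `inner_one` : Mackey's formula for a nondegenerate linear character.
-/

set_option autoImplicit false
set_option linter.unusedSectionVars false

open scoped ComplexConjugate
open Cfsg

namespace Cfsg.Agent.H601.K4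

open Cfsg.Agent.Characters Cfsg.Agent.Characters.Core Cfsg.Agent.OddOrderCharacters.Clifford

universe u

variable {G : Type u} [Group G]

/-- the multiplicity of the character `ψ` of `H` in `χ` -/
noncomputable def cm (H : Subgroup G) [Fintype H] (ψ : H → ℂ) (χ : G → ℂ) : ℂ :=
  classInner ψ (fun t : H => χ t)

/-- the natural number -/
noncomputable def cmN (H : Subgroup G) [Fintype H] (ψ : H → ℂ) (χ : G → ℂ) : ℕ := ⌊(cm H ψ χ).re⌋₊

theorem charDegree_eq {H : Type*} [Group H] {χ : H → ℂ} (hχ : IsCharacter H χ) : (charDegree χ : ℂ) = χ 1 := by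
  obtain ⟨n, hn⟩ := isCharacter_apply_one hχ
  rw [charDegree, hn]
  simp

section

variable (H : Subgroup G) [Fintype H] {ψ : H → ℂ}

theorem exists_cm (hψ : IsCharacter H ψ) {χ : G → ℂ} (hχ : IsCharacter G χ) : ∃ n : ℕ, cm H ψ χ = n :=
  classInner_isNat hψ (isCharacter_comp H.subtype hχ)

theorem cm_eq [Fintype G] {χ : G → ℂ} (hχ : IsClassFunction G χ) :
    cm H ψ χ = classInner (indFun H ψ) χ := (classInner_indFun H _ χ hχ).symm

theorem cmN_spec (hψ : IsCharacter H ψ) {χ : G → ℂ} (hχ : IsCharacter G χ) : cm H ψ χ = cmN H ψ χ := by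
  obtain ⟨n, hn⟩ := exists_cm H hψ hχ
  rw [cmN, hn]
  simp

theorem cm_conj (hψ : IsCharacter H ψ) {χ : G → ℂ} (hχ : IsCharacter G χ) :
    cm H (fun t => conj (ψ t)) (fun g => conj (χ g)) = cm H ψ χ := by
  have h1 : cm H (fun t => conj (ψ t)) (fun g => conj (χ g)) = conj (cm H ψ χ) := by
    rw [cm, cm, classInner_def, classInner_def, map_mul, map_inv₀, Complex.conj_natCast, map_sum]
    congr 1
    refine Finset.sum_congr rfl fun t _ => ?_
    rw [map_mul]
  obtain ⟨n, hn⟩ := exists_cm H hψ hχ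
  rw [h1, hn, Complex.conj_natCast]

variable [Fintype G] [Fintype (IrrCharacter G)]

theorem sum_cm_mul (hψ : IsCharacter H ψ) (K : Subgroup G) [Fintype K] {ψ' : K → ℂ} (hψ' : IsCharacter K ψ') :
    ((∑ χ : IrrCharacter G, cmN H ψ χ * cmN K ψ' χ : ℕ) : ℂ) = classInner (indFun H ψ) (indFun K ψ') := by
  rw [classInner_eq_sum (isClassFunction_indFun H _) (isClassFunction_indFun K _)]
  push_cast
  refine Finset.sum_congr rfl fun χ _ => ?_
  rw [← cm_eq H (isIrr_isClassFunction χ.2), ← cm_eq K (isIrr_isClassFunction χ.2),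
    cmN_spec H hψ (isIrr_isCharacter χ.2), cmN_spec K hψ' (isIrr_isCharacter χ.2), Complex.conj_natCast]

theorem sum_cm_deg (hψ : IsCharacter H ψ) :
    ∑ χ : IrrCharacter G, cmN H ψ χ * charDegree (χ : G → ℂ) = H.index * charDegree ψ := by
  have h1 : ((∑ χ : IrrCharacter G, cmN H ψ χ * charDegree (χ : G → ℂ) : ℕ) : ℂ) =
      ((H.index * charDegree ψ : ℕ) : ℂ) := by
    have h2 := congrFun (classFunction_eq_sum (isClassFunction_indFun H ψ)) 1
    have h3 : indFun H ψ 1 = (H.index : ℂ) * charDegree ψ := by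
      have hc : (Nat.card H : ℂ) ≠ 0 := card_ne_zero'
      rw [Core.indFun_apply]
      have h4 : ∀ x : G, extendByZero H ψ (x⁻¹ * 1 * x) = charDegree ψ := by
        intro x
        have e : x⁻¹ * 1 * x = 1 := by group
        rw [e, ext_apply_mem H _ _ (one_mem H), charDegree_eq hψ]
        rfl
      rw [Finset.sum_congr rfl fun x _ => h4 x, Finset.sum_const, Finset.card_univ, nsmul_eq_mul,
        ← Nat.card_eq_fintype_card, ← H.card_mul_index]
      push_cast
      field_simp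
    push_cast
    rw [← h3, h2, Finset.sum_apply]
    refine Finset.sum_congr rfl fun χ _ => ?_
    rw [Pi.smul_apply, smul_eq_mul, ← cm_eq H (isIrr_isClassFunction χ.2), cmN_spec H hψ (isIrr_isCharacter χ.2),
      charDegree_eq (isIrr_isCharacter χ.2)]
  exact_mod_cast h1

end

/-- A normal subgroup with nonzero fixed points is in the kernel of an irreducible character. -/
theorem ker_of_sum {B : Type*} [Group B] [Finite B] (N : Subgroup B) [N.Normal] [Fintype N] {ψ : B → ℂ}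
    (hψ : IsIrrCharacter B ψ) (h0 : ∑ u : N, ψ u ≠ 0) : ∀ u ∈ N, ∀ b, ψ (u * b) = ψ b := by
  obtain ⟨n, ρ, hρ, rfl⟩ := hψ
  set e : Module.End ℂ (Fin n → ℂ) := ∑ u : N, ρ u with he
  have hcomm : ∀ g, e * ρ g = ρ g * e := by
    intro g
    rw [he, Finset.sum_mul, Finset.mul_sum]
    refine Fintype.sum_equiv (MulAut.conjNormal g⁻¹ : MulAut N).toEquiv _ _ fun u => ?_
    rw [← map_mul, ← map_mul]
    congr 1
    have : (((MulAut.conjNormal g⁻¹ : MulAut N).toEquiv u : N) : B) = g⁻¹ * u * g := by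
      simp
    rw [this]
    group
  obtain ⟨c, hc⟩ := Central.exists_smul_of_comm ρ hρ e hcomm
  have hc0 : c ≠ 0 := by
    rintro rfl
    apply h0
    have h1 : ∑ u : N, ρ.character u = LinearMap.trace ℂ _ e := by
      rw [he, map_sum]
      rfl
    rw [h1, hc, zero_smul, map_zero]
  intro u hu b
  have h1 : ρ u * e = e := by
    rw [he, Finset.mul_sum]
    refine Fintype.sum_equiv (Equiv.mulLeft (⟨u, hu⟩ : N)) _ _ fun v => ?_
    rw [Equiv.coe_mulLeft, Subgroup.coe_mul, map_mul]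
  have h2 : ρ u = 1 := by
    rw [hc, mul_smul_comm, mul_one] at h1
    have h3 := congrArg (fun f => c⁻¹ • f) h1
    simpa [smul_smul, inv_mul_cancel₀ hc0] using h3
  show LinearMap.trace ℂ _ (ρ (u * b)) = LinearMap.trace ℂ _ (ρ b)
  rw [map_mul, h2, one_mul]

/-- For a real character of a group the sum over a subgroup of odd order is `χ(1)` plus an even integer. -/
theorem sum_real [Finite G] {U : Subgroup G} [Fintype U] (hU : Odd (Nat.card U)) {χ : G → ℂ}
    (hχ : IsCharacter G χ) (hr : ∀ x, (χ x).im = 0) : ∃ z : ℂ, IsIntegral ℤ z ∧ ∑ u : U, χ u = χ 1 + 2 * z := by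
  classical
  have hreal : ∀ x, conj (χ x) = χ x := fun x => Complex.conj_eq_iff_im.2 (hr x)
  have hinv : ∀ x, χ x⁻¹ = χ x := fun x => by rw [isCharacter_apply_inv hχ, hreal]
  have hne : ∀ u : U, u ≠ 1 → u⁻¹ ≠ u := by
    intro u hu h1
    apply hu
    have h2 : u ^ 2 = 1 := by
      rw [pow_two]
      nth_rw 1 [← h1]
      exact inv_mul_cancel u
    have h3 : orderOf u ∣ 2 := orderOf_dvd_of_pow_eq_one h2
    have h4 : orderOf u ∣ Nat.card U := orderOf_dvd_natCard u
    have h5 : orderOf u ∣ 1 := by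
      have h6 : Nat.Coprime 2 (Nat.card U) := by
        rw [Nat.coprime_comm]; exact Nat.coprime_two_right.2 hU
      rw [← h6]
      exact Nat.dvd_gcd h3 h4
    rwa [Nat.dvd_one, orderOf_eq_one_iff] at h5
  obtain ⟨S, hS⟩ : ∃ S : Finset U, (Finset.univ.erase (1 : U)) = S ∪ S.image (·⁻¹) ∧ Disjoint S (S.image (·⁻¹)) := by
    obtain ⟨e⟩ : Nonempty (U ≃ Fin (Fintype.card U)) := ⟨Fintype.equivFin U⟩
    refine ⟨(Finset.univ.erase (1 : U)).filter fun u => e u < e u⁻¹, ?_, ?_⟩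
    · ext u
      simp only [Finset.mem_erase, Finset.mem_univ, and_true, Finset.mem_union, Finset.mem_filter, Finset.mem_image]
      constructor
      · intro hu
        rcases lt_trichotomy (e u) (e u⁻¹) with h1 | h1 | h1
        · exact Or.inl ⟨hu, h1⟩
        · exact absurd (e.injective h1).symm (hne u hu)
        · exact Or.inr ⟨u⁻¹, ⟨inv_ne_one.2 hu, by rwa [inv_inv]⟩, inv_inv u⟩
      · rintro (⟨h1, -⟩ | ⟨v, ⟨h1, -⟩, rfl⟩)
        · exact h1
        · exact inv_ne_one.2 h1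
    · rw [Finset.disjoint_left]
      intro u hu hu'
      obtain ⟨v, hv, rfl⟩ := Finset.mem_image.1 hu'
      have h1 := (Finset.mem_filter.1 hu).2
      have h2 := (Finset.mem_filter.1 hv).2
      rw [inv_inv] at h1
      exact lt_asymm h1 h2
  refine ⟨∑ u ∈ S, χ u, ?_, ?_⟩
  · exact IsIntegral.sum _ fun u _ => GaloisBasic.isIntegral_apply hχ _
  · rw [← Finset.add_sum_erase _ _ (Finset.mem_univ (1 : U)), hS.1, Finset.sum_union hS.2, Finset.sum_image
      (fun a _ b _ h => inv_injective h), two_mul]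
    congr 2
    refine Finset.sum_congr rfl fun u _ => ?_
    rw [Subgroup.coe_inv, hinv]

/-- **An odd degree constituent of the fixed points.** -/
theorem exists_odd_lift [Finite G] {U B : Subgroup G} [Fintype U] [Fintype B] (hUB : U ≤ B)
    (hnorm : ∀ b ∈ B, ∀ u ∈ U, b * u * b⁻¹ ∈ U) (hU : Odd (Nat.card U)) {χ : G → ℂ} (hχ : IsCharacter G χ)
    (hr : ∀ x, (χ x).im = 0) (hodd : ¬ 2 ∣ charDegree χ) :
    ∃ ψ : B → ℂ, IsIrrCharacter B ψ ∧ (∀ (u : G) (hu : u ∈ U) (b : B), ψ (⟨u, hUB hu⟩ * b) = ψ b) ∧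
      ¬ 2 ∣ charDegree ψ ∧ ¬ 2 ∣ cmN B ψ χ := by
  classical
  have hfin : Finite (IrrCharacter B) := finite_irr
  have := Fintype.ofFinite (IrrCharacter B)
  set N : Subgroup B := U.subgroupOf B with hN
  have hmem : ∀ b : B, b ∈ N ↔ (b : G) ∈ U := fun b => Subgroup.mem_subgroupOf
  have hnorm' : N.Normal := by
    constructor
    intro x hx g
    rw [hmem] at hx ⊢
    exact hnorm g g.2 _ hx
  have : Fintype N := Fintype.ofFinite _
  have hχB : IsCharacter B (fun t : B => χ t) := isCharacter_comp B.subtype hχ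
  have hsum : ∑ u : U, χ u = ∑ u : N, (fun t : B => χ t) u := by
    refine Fintype.sum_equiv
      { toFun := fun u => ⟨⟨u, hUB u.2⟩, (hmem _).2 u.2⟩
        invFun := fun v => ⟨v.1, (hmem _).1 v.2⟩
        left_inv := fun _ => rfl
        right_inv := fun _ => rfl } _ _ fun _ => rfl
  have hcard : Nat.card N = Nat.card U := by
    refine Nat.card_congr
      { toFun := fun v => ⟨v.1, (hmem _).1 v.2⟩
        invFun := fun u => ⟨⟨u, hUB u.2⟩, (hmem _).2 u.2⟩
        left_inv := fun _ => rfl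
        right_inv := fun _ => rfl }
  -- multiplicities
  have hexp := classFunction_eq_sum (isCharacter_isClassFunction hχB)
  have hcN : ∀ ψ : IrrCharacter B, classInner (fun t : B => χ t) (ψ : B → ℂ) = (cmN B (ψ : B → ℂ) χ : ℂ) := by
    intro ψ
    rw [← cmN_spec B (isIrr_isCharacter ψ.2) hχ, cm, ← classInner_conj_symm]
    obtain ⟨m, hm⟩ := classInner_isNat (isIrr_isCharacter ψ.2) hχB
    rw [classInner_conj_symm, hm, ← classInner_conj_symm, hm, Complex.conj_natCast]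
  -- the normal subgroup acts trivially or has no fixed points
  let P : IrrCharacter B → Prop := fun ψ => ∀ u ∈ N, ∀ b, (ψ : B → ℂ) (u * b) = (ψ : B → ℂ) b
  have hker : ∀ ψ : IrrCharacter B, ∑ u : N, (ψ : B → ℂ) u =
      if P ψ then (Nat.card U : ℂ) * charDegree (ψ : B → ℂ) else 0 := by
    intro ψ
    split_ifs with h
    · have h1 : ∀ u : N, (ψ : B → ℂ) u = charDegree (ψ : B → ℂ) := by
        intro u
        have := h u u.2 1
        rw [mul_one] at this
        rw [this, charDegree_eq (isIrr_isCharacter ψ.2)]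
      rw [Finset.sum_congr rfl fun u _ => h1 u, Finset.sum_const, nsmul_eq_mul, Finset.card_univ,
        ← Nat.card_eq_fintype_card, hcard]
    · by_contra h0
      exact h (ker_of_sum N ψ.2 h0)
  have htot : ∑ u : U, χ u = ((Nat.card U * ∑ ψ : IrrCharacter B,
      if P ψ then cmN B (ψ : B → ℂ) χ * charDegree (ψ : B → ℂ) else 0 : ℕ) : ℂ) := by
    rw [hsum]
    have h1 : ∀ u : N, (fun t : B => χ t) u =
        ∑ ψ : IrrCharacter B, (cmN B (ψ : B → ℂ) χ : ℂ) * (ψ : B → ℂ) u := by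
      intro u
      conv_lhs => rw [hexp]
      rw [Finset.sum_apply]
      refine Finset.sum_congr rfl fun ψ _ => ?_
      rw [Pi.smul_apply, smul_eq_mul, hcN]
    rw [Finset.sum_congr rfl fun u _ => h1 u, Finset.sum_comm]
    push_cast
    rw [Finset.mul_sum]
    refine Finset.sum_congr rfl fun ψ _ => ?_
    rw [← Finset.mul_sum, hker]
    split_ifs
    · push_cast
      ring
    · simp
  obtain ⟨z, hz, hz'⟩ := sum_real hU hχ hr
  rw [htot, ← charDegree_eq hχ] at hz'
  set D : ℕ := ∑ ψ : IrrCharacter B, if P ψ then cmN B (ψ : B → ℂ) χ * charDegree (ψ : B → ℂ) else 0 with hD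
  obtain ⟨k, hk⟩ : ∃ k : ℤ, z = k := by
    have h3 : z = ((((Nat.card U * D : ℕ) : ℚ) - charDegree χ) / 2 : ℚ) := by
      push_cast
      push_cast at hz'
      linear_combination -hz' / 2
    have h4 : IsIntegral ℤ ((((Nat.card U * D : ℕ) : ℚ) - charDegree χ) / 2 : ℚ) := by
      have h5 : IsIntegral ℤ (algebraMap ℚ ℂ ((((Nat.card U * D : ℕ) : ℚ) - charDegree χ) / 2)) := by
        have : algebraMap ℚ ℂ ((((Nat.card U * D : ℕ) : ℚ) - charDegree χ) / 2) = z := by rw [h3]; rfl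
        rw [this]
        exact hz
      exact (isIntegral_algebraMap_iff (algebraMap ℚ ℂ).injective).1 h5
    obtain ⟨k, hk⟩ := IsIntegrallyClosed.isIntegral_iff.1 h4
    refine ⟨k, ?_⟩
    rw [h3, ← hk]
    simp
  have hodd' : ¬ 2 ∣ D := by
    intro h2
    apply hodd
    have h3 : ((Nat.card U * D : ℕ) : ℤ) = (charDegree χ : ℤ) + 2 * k := by
      rw [hk] at hz'
      exact_mod_cast hz'
    have h4 : (2 : ℤ) ∣ (Nat.card U * D : ℕ) := by
      exact_mod_cast (h2.mul_left (Nat.card U))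
    have h5 : (2 : ℤ) ∣ (charDegree χ : ℤ) := by
      rw [h3] at h4
      exact (dvd_add_left (Dvd.intro _ rfl)).1 h4
    exact_mod_cast h5
  obtain ⟨ψ, hψ⟩ : ∃ ψ : IrrCharacter B, ¬ 2 ∣ (if P ψ then cmN B (ψ : B → ℂ) χ * charDegree (ψ : B → ℂ) else 0) := by
    by_contra hcon
    push Not at hcon
    exact hodd' (Finset.dvd_sum fun ψ _ => hcon ψ)
  by_cases hP : P ψ
  · rw [if_pos hP] at hψ
    exact ⟨ψ, ψ.2, fun u hu b => hP ⟨u, hUB hu⟩ ((hmem _).2 hu) b, fun h => hψ (h.mul_left _), fun h => hψ (h.mul_right _)⟩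
  · rw [if_neg hP] at hψ
    exact absurd (dvd_zero 2) hψ

section mackey

variable [Fintype G] {U B : Subgroup G} [Fintype U] [Fintype B]

/-- the Mackey sum -/
theorem inner_eq_sum (α : U → ℂ) (β : B → ℂ) :
    classInner (indFun U α) (indFun B β) =
      (Nat.card U : ℂ)⁻¹ * ((Nat.card B : ℂ)⁻¹ * ∑ x : G, ∑ t : U, α t * conj (extendByZero B β (x⁻¹ * t * x))) := by
  rw [classInner_indFun U α _ (isClassFunction_indFun B β), classInner_def]
  congr 1
  have h1 : ∀ t : U, α t * conj (indFun B β t) =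
      (Nat.card B : ℂ)⁻¹ * ∑ x : G, α t * conj (extendByZero B β (x⁻¹ * t * x)) := by
    intro t
    rw [Core.indFun_apply, map_mul, map_inv₀, Complex.conj_natCast, map_sum, ← Finset.mul_sum]
    ring
  rw [Finset.sum_congr rfl fun t _ => h1 t, ← Finset.mul_sum, Finset.sum_comm]

/-- a term of the Mackey sum vanishes -/
theorem term_zero (θ : U →* ℂˣ) (f : B →* ℂˣ) {x l : G} (hl : l ∈ U) (hx : x⁻¹ * l * x ∈ B)
    (hne : θ ⟨l, hl⟩ ≠ f ⟨x⁻¹ * l * x, hx⟩) :
    ∑ t : U, (θ t : ℂ) * conj (extendByZero B (fun b => (f b : ℂ)) (x⁻¹ * t * x)) = 0 := by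
  classical
  set F : U → ℂ := fun t => (θ t : ℂ) * conj (extendByZero B (fun b => (f b : ℂ)) (x⁻¹ * t * x)) with hF
  have hmul : ∀ t : U, F (⟨l, hl⟩ * t) = ((θ ⟨l, hl⟩ : ℂ) * conj (f ⟨x⁻¹ * l * x, hx⟩ : ℂ)) * F t := by
    intro t
    simp only [hF]
    have e1 : x⁻¹ * (((⟨l, hl⟩ : U) * t : U) : G) * x = (x⁻¹ * l * x) * (x⁻¹ * t * x) := by
      rw [Subgroup.coe_mul]
      group
    rw [e1]
    by_cases ht : x⁻¹ * (t : G) * x ∈ B
    · rw [ext_apply_mem B _ _ (mul_mem hx ht), ext_apply_mem B _ _ ht]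
      have e2 : (⟨(x⁻¹ * l * x) * (x⁻¹ * t * x), mul_mem hx ht⟩ : B) =
          ⟨x⁻¹ * l * x, hx⟩ * ⟨x⁻¹ * t * x, ht⟩ := rfl
      rw [e2, map_mul, map_mul, Units.val_mul, Units.val_mul, map_mul]
      ring
    · rw [ext_apply_not_mem B _ _ ht, ext_apply_not_mem B _ _ fun h => ht (by
        have := mul_mem (inv_mem hx) h
        rwa [inv_mul_cancel_left] at this)]
      simp
  have hsum : ∑ t : U, F t = ((θ ⟨l, hl⟩ : ℂ) * conj (f ⟨x⁻¹ * l * x, hx⟩ : ℂ)) * ∑ t : U, F t := by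
    rw [Finset.mul_sum]
    calc ∑ t : U, F t = ∑ t : U, F (⟨l, hl⟩ * t) :=
          (Fintype.sum_equiv (Equiv.mulLeft (⟨l, hl⟩ : U)) _ _ fun t => rfl).symm
      _ = _ := Finset.sum_congr rfl fun t _ => hmul t
  have hc : (θ ⟨l, hl⟩ : ℂ) * conj (f ⟨x⁻¹ * l * x, hx⟩ : ℂ) ≠ 1 := by
    intro h1
    apply hne
    apply Units.ext
    have h2 : (f ⟨x⁻¹ * l * x, hx⟩ : ℂ) * conj (f ⟨x⁻¹ * l * x, hx⟩ : ℂ) = 1 := by
      rw [Complex.mul_conj, Complex.normSq_eq_norm_sq, Linear.norm_hom_apply]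
      norm_num
    calc (θ ⟨l, hl⟩ : ℂ) = (θ ⟨l, hl⟩ : ℂ) * ((f ⟨x⁻¹ * l * x, hx⟩ : ℂ) * conj (f ⟨x⁻¹ * l * x, hx⟩ : ℂ)) := by
          rw [h2, mul_one]
      _ = (f ⟨x⁻¹ * l * x, hx⟩ : ℂ) * ((θ ⟨l, hl⟩ : ℂ) * conj (f ⟨x⁻¹ * l * x, hx⟩ : ℂ)) := by ring
      _ = _ := by rw [h1, mul_one]
  by_contra h0
  apply hc
  have h3 : (1 - (θ ⟨l, hl⟩ : ℂ) * conj (f ⟨x⁻¹ * l * x, hx⟩ : ℂ)) * ∑ t : U, F t = 0 := by
    rw [sub_mul, one_mul, ← hsum, sub_self]
  rcases mul_eq_zero.1 h3 with h4 | h4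
  · exact (sub_eq_zero.1 h4).symm
  · exact absurd h4 h0

/-- **Mackey's formula, zero.** -/
theorem inner_zero (θ : U →* ℂˣ) (f : B →* ℂˣ)
    (h : ∀ x : G, ∃ (l : G) (hl : l ∈ U) (hx : x⁻¹ * l * x ∈ B), θ ⟨l, hl⟩ ≠ f ⟨x⁻¹ * l * x, hx⟩) :
    classInner (indFun U fun t => (θ t : ℂ)) (indFun B fun t => (f t : ℂ)) = 0 := by
  rw [inner_eq_sum]
  rw [Finset.sum_eq_zero fun x _ => ?_, mul_zero, mul_zero]
  obtain ⟨l, hl, hx, hne⟩ := h x
  exact term_zero θ f hl hx hne

/-- **Mackey's formula, one.** -/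
theorem inner_one (θ : U →* ℂˣ) (f : B →* ℂˣ) (g₀ : G) (h0 : ∀ u ∈ U, g₀⁻¹ * u * g₀ ∈ B → u = 1)
    (h : ∀ x : G, (∃ u ∈ U, ∃ b ∈ B, x = u * g₀ * b) ∨
      ∃ (l : G) (hl : l ∈ U) (hx : x⁻¹ * l * x ∈ B), θ ⟨l, hl⟩ ≠ f ⟨x⁻¹ * l * x, hx⟩) :
    classInner (indFun U fun t => (θ t : ℂ)) (indFun B fun t => (f t : ℂ)) = 1 := by
  classical
  have hU : (Nat.card U : ℂ) ≠ 0 := card_ne_zero'
  have hB : (Nat.card B : ℂ) ≠ 0 := card_ne_zero'
  rw [inner_eq_sum]
  let D : Finset G := Finset.univ.filter fun x => ∃ u ∈ U, ∃ b ∈ B, x = u * g₀ * b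
  have h1 : ∑ x : G, ∑ t : U, (θ t : ℂ) * conj (extendByZero B (fun b => (f b : ℂ)) (x⁻¹ * t * x)) =
      ∑ x ∈ D, (1 : ℂ) := by
    rw [← Finset.sum_subset (Finset.subset_univ D)]
    · refine Finset.sum_congr rfl fun x hx => ?_
      obtain ⟨u, hu, b, hb, rfl⟩ := (Finset.mem_filter.1 hx).2
      rw [Finset.sum_eq_single (1 : U)]
      · have e : (u * g₀ * b)⁻¹ * ((1 : U) : G) * (u * g₀ * b) = 1 := by
          rw [Subgroup.coe_one]; group
        rw [e, ext_apply_mem B _ _ (one_mem B)]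
        have : (⟨1, one_mem B⟩ : B) = 1 := rfl
        rw [this, map_one, map_one]
        simp
      · intro t _ ht
        rw [ext_apply_not_mem, map_zero, mul_zero]
        intro hmem
        apply ht
        apply Subtype.ext
        have h2 : u⁻¹ * (t : G) * u = 1 := by
          refine h0 _ (mul_mem (mul_mem (inv_mem hu) t.2) hu) ?_
          have h3 := mul_mem (mul_mem hb hmem) (inv_mem hb)
          have e : b * ((u * g₀ * b)⁻¹ * (t : G) * (u * g₀ * b)) * b⁻¹ = g₀⁻¹ * (u⁻¹ * (t : G) * u) * g₀ := by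
            group
          rwa [e] at h3
        have h4 : (t : G) = u * (u⁻¹ * (t : G) * u) * u⁻¹ := by group
        rw [h4, h2]
        simp
      · intro hcon
        exact absurd (Finset.mem_univ _) hcon
    · intro x _ hx
      rcases h x with h2 | ⟨l, hl, hx', hne⟩
      · exact (hx (Finset.mem_filter.2 ⟨Finset.mem_univ _, h2⟩)).elim
      · exact term_zero θ f hl hx' hne
  have h2 : D.card = Nat.card U * Nat.card B := by
    rw [← Nat.card_prod]
    symm
    rw [← Nat.card_eq_finsetCard]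
    refine Nat.card_congr (Equiv.ofBijective (fun x : U × B => (⟨x.1 * g₀ * x.2,
      Finset.mem_filter.2 ⟨Finset.mem_univ _, x.1, x.1.2, x.2, x.2.2, rfl⟩⟩ : D)) ⟨?_, ?_⟩)
    · rintro ⟨u, b⟩ ⟨u', b'⟩ hab
      have h3 : (u : G) * g₀ * b = u' * g₀ * b' := congrArg Subtype.val hab
      have h4 : ((u' : G)⁻¹ * u) = 1 := by
        refine h0 _ (mul_mem (inv_mem u'.2) u.2) ?_
        have e : g₀⁻¹ * ((u' : G)⁻¹ * u) * g₀ = b' * (b : G)⁻¹ := by
          have : (u : G) = u' * g₀ * b' * (b : G)⁻¹ * g₀⁻¹ := by rw [← h3]; group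
          rw [this]; group
        rw [e]
        exact mul_mem b'.2 (inv_mem b.2)
      have h5 : u' = u := Subtype.ext (inv_mul_eq_one.1 h4)
      subst h5
      have h6 : (b : G) = b' := mul_left_cancel h3
      exact Prod.ext rfl (Subtype.ext h6)
    · rintro ⟨x, hx⟩
      obtain ⟨u, hu, b, hb, rfl⟩ := (Finset.mem_filter.1 hx).2
      exact ⟨(⟨u, hu⟩, ⟨b, hb⟩), rfl⟩
  rw [h1, Finset.sum_const, h2, nsmul_eq_mul, mul_one]
  push_cast
  field_simp

end mackey

end Cfsg.Agent.H601.K4
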