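import Cfsg.Agent.H601.OddDeg.BN
import Cfsg.Agent.H601.K4.Lin

/-!
# The Steinberg character: restriction to `U` and `B`-fixed vector (S4947, S4547; helper601)

* `exists_st` : a group with a split (B,N)-pair of odd characteristic has a real irreducible character `χ` of odd degree
  whose restriction to `U` is the regular character, with a `B`-fixed vector, without fixed vectors of the minimal
  parabolic subgroups;
* `even_index` : `|G : P_J|` is even if `|W : W_J|` is.
-/

set_option autoImplicit false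
set_option linter.unusedSectionVars false

namespace Cfsg.Agent.H601.K4

open Cfsg Cfsg.Agent.Tits.Core Cfsg.Agent.Tits.Core.Bldg Cfsg.Agent.FixBN Cfsg.Agent.H163.Steinberg
open Cfsg.Agent.Tits.OfBN Cfsg.Agent.FixBN.OfBN Cfsg.Agent.FixBN.TwOfBN Cfsg.Agent.H612.BNCosets
open Cfsg.Agent.Characters.Core Cfsg.Agent.Tits.OppRes Cfsg.Agent.H601.OddDeg Cfsg.Agent.H601.OddDeg.SteinbergInv
open scoped ComplexConjugate Classical

universe u

variable {K : Type u} [Group K] [Fintype K] {P : Cfsg.BNPair K} {p : ℕ} {U : Subgroup K}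

/-- **The Steinberg character.** -/
theorem exists_st (hs : Split P p U) (hp : p.Prime) (hp2 : p ≠ 2) {I : Type*} {M : CoxeterMatrix I}
    {e : I ≃ P.S} (hM : BNType P M e) :
    ∃ χ : K → ℂ, OddIrr χ ∧ (∀ x, (χ x).im = 0) ∧ (∀ u ∈ U, χ u = if u = 1 then (Nat.card U : ℂ) else 0) ∧
      mult P.B χ ≠ 0 ∧ ∀ i, mult (PJ P e {i}) χ = 0 := by
  have : Fact p.Prime := ⟨hp⟩
  obtain ⟨hN, cs, hcs⟩ := hM
  have hI : Finite I := finite_I e
  have : Fintype (K ⧸ P.B) := Fintype.ofFinite _
  set Δ := bldg P e cs hcs with hΔ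
  set S := sys e cs hcs hs with hS
  have ht : ∀ x y : K ⧸ P.B, ∃ g : K, g • x = y := fun x y => MulAction.exists_smul_eq K x y
  have hopp : ∀ c : K ⧸ P.B, ∃ d, Δ.Opp c d := fun c => Tits.Opp.exists_opp Δ c
  set c0 : K ⧸ P.B := QuotientGroup.mk 1 with hc0
  have hirr := isIrreducible S ht c0 (hopp c0)
  have hU : S.U c0 = U := by
    ext u
    change u ∈ UU P U (QuotientGroup.mk 1) ↔ _
    rw [mem_UU hs]
    simp
  have hχirr : IsIrrCharacter K (rep (G := K) S.iso).character := isIrrCharacter_of_rep _ hirr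
  have hval : ∀ u ∈ U, (rep (G := K) S.iso).character u = if u = 1 then (Nat.card U : ℂ) else 0 := by
    intro u hu
    rw [character_apply S c0 (hopp c0) u (by rw [hU]; exact hu), hU]
  have h1 : (rep (G := K) S.iso).character 1 = Nat.card U := by
    rw [hval 1 (one_mem _), if_pos rfl]
  refine ⟨(rep (G := K) S.iso).character, ⟨hχirr, ?_⟩, fun x => character_im S x, hval, ?_, ?_⟩
  · rw [charDegree, h1]
    have h2 := odd_card hs hp hp2
    rw [Complex.natCast_re, Nat.floor_natCast, ← even_iff_two_dvd, Nat.not_even_iff_odd]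
    exact h2
  · -- a `U`-fixed vector
    have hm : mult U (rep (G := K) S.iso).character ≠ 0 := by
      rw [mult, sB_one_eq, Finset.sum_congr rfl fun u _ => hval u.1 u.2, Finset.sum_eq_single (1 : U)]
      · have h3 : (Nat.card U : ℂ) ≠ 0 := Nat.cast_ne_zero.2 Nat.card_pos.ne'
        rw [if_pos (by simp)]
        exact mul_ne_zero (inv_ne_zero h3) h3
      · intro u _ hu
        rw [if_neg]
        exact fun h => hu (Subtype.ext h)
      · intro h
        exact absurd (Finset.mem_univ _) h
    rw [mult_eq_finrank U (rep (G := K) S.iso), Ne, Nat.cast_eq_zero, Submodule.finrank_eq_zero] at hm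
    obtain ⟨v, hv, hv0⟩ := Submodule.exists_mem_ne_zero_of_ne_bot hm
    have hvU : ∀ u ∈ U, rep (G := K) S.iso u v = v := fun u hu => hv ⟨u, hu⟩
    rw [mult_eq_finrank P.B (rep (G := K) S.iso), Ne, Nat.cast_eq_zero, Submodule.finrank_eq_zero]
    intro hbot
    apply hv0
    rw [← Submodule.mem_bot (R := ℂ), ← hbot]
    rintro ⟨b, hb⟩
    change rep (G := K) S.iso b v = v
    rw [← sub_eq_zero]
    apply eq_zero_of_inv S ht (c := c0)
    · intro u hu
      rw [hU] at hu
      rw [map_sub, hvU u hu]
      congr 1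
      have h3 : b⁻¹ * u * b ∈ U := by
        have := hs.norm b⁻¹ (inv_mem hb) u hu
        rwa [inv_inv] at this
      calc rep (G := K) S.iso u (rep (G := K) S.iso b v) = rep (G := K) S.iso (u * b) v := by rw [map_mul]; rfl
        _ = rep (G := K) S.iso (b * (b⁻¹ * u * b)) v := by congr 2; group
        _ = rep (G := K) S.iso b (rep (G := K) S.iso (b⁻¹ * u * b) v) := by rw [map_mul]; rfl
        _ = _ := by rw [hvU _ h3]
    · change ((rep (G := K) S.iso b v : St Δ) : K ⧸ P.B → ℂ) c0 - (v : K ⧸ P.B → ℂ) c0 = 0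
      rw [rep_apply, hc0, OfBN.smul_mk]
      have h3 : (QuotientGroup.mk (b⁻¹ * 1) : K ⧸ P.B) = QuotientGroup.mk 1 := by
        rw [OfBN.mk_eq]
        simpa using hb
      rw [h3, sub_self]
  · -- no fixed vectors of the minimal parabolic subgroups
    intro i
    have h4 := mult_eq_finrank (PJ P e {i}) (rep (G := K) S.iso)
    rw [h4, Nat.cast_eq_zero, Submodule.finrank_eq_zero, eq_bot_iff]
    intro f hf
    rw [Submodule.mem_bot]
    have hinv : ∀ k ∈ PJ P e {i}, rep (G := K) S.iso k f = f := fun k hk => hf ⟨k, hk⟩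
    apply eq_zero_of_inv S ht (c := c0)
    · intro u hu
      rw [hU] at hu
      exact hinv u (B_le_PJ P e {i} (hs.le hu))
    · have h5 : ∀ y ∈ Δ.Pan i c0, (f : K ⧸ P.B → ℂ) y = (f : K ⧸ P.B → ℂ) c0 := by
        intro y hy
        induction y using QuotientGroup.induction_on with
        | _ a =>
        have ha : a ∈ PJ P e {i} := by
          rw [mem_PJ P e cs hcs]
          rcases Δ.mem_Pan.1 hy with h | h
          · rw [hc0, OfBN.mk_eq, mul_one] at h
            have h6 : wt P a = 1 := by
              have h7 : wt P (1 * a) = wt P 1 := wt_mul_right P 1 (by simpa using inv_mem h)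
              rw [one_mul] at h7
              rw [h7]
              exact wt_of_mem P (n := 1) (LieExceptional.BNPairCore.self_mem_C _)
            rw [h6]
            exact one_mem _
          · rw [hc0, hΔ, bldg_δ_mk, inv_one, one_mul] at h
            rw [h]
            exact Subgroup.subset_closure ⟨i, rfl, rfl⟩
        have h6 := congrArg (fun z : St Δ => (z : K ⧸ P.B → ℂ) (QuotientGroup.mk a)) (hinv a ha)
        simp only [rep_apply] at h6
        rw [← h6]
        rw [OfBN.smul_mk, inv_mul_cancel]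
      have h6 := f.2 i c0
      unfold psum at h6
      have h7 : ∑ y, (if y ∈ Δ.Pan i c0 then (f : K ⧸ P.B → ℂ) y else 0) =
          (Finset.univ.filter fun y => y ∈ Δ.Pan i c0).card * (f : K ⧸ P.B → ℂ) c0 := by
        rw [← Finset.sum_filter, Finset.sum_congr rfl fun y hy => h5 y (Finset.mem_filter.1 hy).2,
          Finset.sum_const, nsmul_eq_mul]
      rw [h7] at h6
      refine (mul_eq_zero.1 h6).resolve_left (Nat.cast_ne_zero.2 ?_)
      apply Finset.card_ne_zero_of_mem (a := c0)
      rw [Finset.mem_filter]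
      exact ⟨Finset.mem_univ _, Δ.mem_Pan.2 (Or.inl rfl)⟩

/-- the index of a parabolic subgroup is even -/
theorem even_index (hs : Split P p U) (hp : p.Prime) (hp2 : p ≠ 2) {I : Type*} {M : CoxeterMatrix I}
    {e : I ≃ P.S} (hM : BNType P M e) (J : Set I)
    (hidx : ∀ {W : Type u} [Group W] [Finite W] (cs : CoxeterSystem M W), 2 ∣ (WJ cs J).index) :
    2 ∣ (PJ P e J).index := by
  have : Fact p.Prime := ⟨hp⟩
  obtain ⟨hN, cs, hcs⟩ := hM
  have hI : Finite I := finite_I e
  have h1 := index_parity e hs cs hcs hp hp2 J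
  exact (Nat.modEq_zero_iff_dvd.1 (h1.trans (Nat.modEq_zero_iff_dvd.2 (hidx cs))))

end Cfsg.Agent.H601.K4
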