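import Cfsg.Agent.H601.K4.Engine
import Cfsg.Agent.H601.K4.StB
import Cfsg.Agent.H246.Dl.Mack
import Cfsg.Agent.Nodes.OppDec
import Cfsg.Agent.Nodes.Bruhat
import Cfsg.Agent.Mrg.Omega.ML.Ex.Typ.List

/-!
# Five odd degree characters of a simple group with a root group datum of odd characteristic (S4947; helper601)

* `exists_theta` : a nondegenerate linear character of `U`;
* `cover`, `inf_eq` : the double cosets;
* `dis` : the principal series is disjoint from the other series;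
* `HasRGDT.odd5` : five irreducible characters of odd degree, if `|W : W_J|` is even for a nonempty `J`.
-/

set_option autoImplicit false
set_option linter.unusedSectionVars false

open scoped ComplexConjugate
open Cfsg

namespace Cfsg.Agent.H601.K4

open CoxeterSystem Cfsg.Agent.ChevalleyStructure.CoxeterGeom Cfsg.Agent.Tits.Roots Cfsg.Agent.Tits.Core
  Cfsg.Agent.Tits.RootComb Cfsg.Agent.Nodes.Comb Cfsg.Agent.Nodes.Reps Cfsg.Agent.Nodes.BNOf Cfsg.Agent.FixBN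
  Cfsg.Agent.Nodes.StabComb Cfsg.Agent.Characters Cfsg.Agent.Characters.Core
  Cfsg.Agent.OddOrderCharacters.Clifford

section rgd

variable {I W Y : Type*} [Fintype I] [DecidableEq I] [Group W] [Group Y] {M : CoxeterMatrix I}
  {cs : CoxeterSystem M W} {A : I → I → ℤ} {h : IsCartan M A} {p : ℕ} {T : Subgroup Y} {n : I → Y}
  {X : (I → ℤ) → Subgroup Y}

/-- a linear character of `U` trivial on `V_i` and not on `X α_i` -/
theorem exists_theta_one [Finite W] [Finite Y] [Fact p.Prime] (R : RGD cs h p T n X) (i : I) :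
    ∃ θ : ↥(RGD.Sup X (RGD.Pos cs h)) →* ℂˣ,
      (∀ (v : Y) (_ : v ∈ RGD.Sup X (RGD.PosNe cs h i)) (hvU : v ∈ RGD.Sup X (RGD.Pos cs h)), θ ⟨v, hvU⟩ = 1) ∧
      ∃ (l : Y) (_ : l ∈ X (sr i)) (hlU : l ∈ RGD.Sup X (RGD.Pos cs h)), θ ⟨l, hlU⟩ ≠ 1 := by
  set U := RGD.Sup X (RGD.Pos cs h) with hU
  set V := RGD.Sup X (RGD.PosNe cs h i) with hV
  have hVU : V ≤ U := RGD.Sup_mono fun z hz => ⟨hz.1, hz.2.1⟩
  have hUB : U ≤ RGD.B cs h T X := RGD.U_le_B
  have hXU : X (sr i) ≤ U := RGD.le_Sup (S := RGD.Pos cs h) ⟨isRoot_sr cs h i, sr_nonneg i⟩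
  have hN : (V.subgroupOf U).Normal := by
    constructor
    intro x hx g
    rw [Subgroup.mem_subgroupOf] at hx ⊢
    have := (Subgroup.mem_normalizer_iff.1 (NodeRGD.B_le_normalizer_V R i (hUB g.2))) (x : Y)
    exact this.1 hx
  have hne : ∃ l ∈ X (sr i), l ∉ V := by
    by_contra hcon
    push Not at hcon
    apply R.not_neg_le_B i
    intro x hx
    have h1 : (n i)⁻¹ * x * n i ∈ X (sr i) := by
      have := R.conj_mem' (rp_simple cs R.nsys i) (isRoot_sr cs h i).neg hx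
      rwa [inv_simple, map_neg, rep_simple_sr, neg_neg] at this
    have h2 := hcon _ h1
    have h3 : n i * ((n i)⁻¹ * x * n i) * (n i)⁻¹ ∈ cj (n i) V := conj_mem_cj.2 h2
    rw [R.cj_n_V i] at h3
    have h4 : n i * ((n i)⁻¹ * x * n i) * (n i)⁻¹ = x := by group
    rw [h4] at h3
    exact hUB (hVU h3)
  obtain ⟨l, hl, hlV⟩ := hne
  have hP : IsPGroup p (↥U ⧸ V.subgroupOf U) := R.isPGroup_Upos.to_quotient _
  have hnt : Nontrivial (↥U ⧸ V.subgroupOf U) := by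
    refine ⟨⟨QuotientGroup.mk ⟨l, hXU hl⟩, 1, fun he => hlV ?_⟩⟩
    rw [QuotientGroup.eq_one_iff, Subgroup.mem_subgroupOf] at he
    exact he
  have hnil : Group.IsNilpotent (↥U ⧸ V.subgroupOf U) := hP.isNilpotent
  have hlt := Group.IsSolvable.commutator_lt_top_of_nontrivial (↥U ⧸ V.subgroupOf U)
  obtain ⟨a, -, ha⟩ := SetLike.exists_of_lt hlt
  have ha1 : (Abelianization.of a) ≠ 1 := by
    intro he
    apply ha
    rwa [← MonoidHom.mem_ker, Abelianization.ker_of] at he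
  obtain ⟨φ, hφ⟩ := CommGroup.exists_apply_ne_one_of_hasEnoughRootsOfUnity
    (Abelianization (↥U ⧸ V.subgroupOf U)) ℂ ha1
  refine ⟨(φ.comp Abelianization.of).comp (QuotientGroup.mk' _), ?_, ?_⟩
  · intro v hv hvU
    have h1 : QuotientGroup.mk' (V.subgroupOf U) ⟨v, hvU⟩ = 1 := by
      rw [QuotientGroup.mk'_apply, QuotientGroup.eq_one_iff, Subgroup.mem_subgroupOf]
      exact hv
    rw [MonoidHom.comp_apply, h1, map_one]
  · by_contra hcon
    push Not at hcon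
    apply hφ
    obtain ⟨u, rfl⟩ := QuotientGroup.mk'_surjective (V.subgroupOf U) a
    set θ := (φ.comp Abelianization.of).comp (QuotientGroup.mk' (V.subgroupOf U)) with hθ
    have h1 : U ≤ θ.ker.map U.subtype := by
      have h2 : U = X (sr i) ⊔ V := R.Upos_eq i
      conv_lhs => rw [h2]
      refine sup_le (fun x hx => ?_) fun x hx => ?_
      · exact ⟨⟨x, hXU hx⟩, hcon x hx _, rfl⟩
      · refine ⟨⟨x, hVU hx⟩, ?_, rfl⟩
        rw [SetLike.mem_coe, MonoidHom.mem_ker, hθ, MonoidHom.comp_apply]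
        have h3 : QuotientGroup.mk' (V.subgroupOf U) ⟨x, hVU hx⟩ = 1 := by
          rw [QuotientGroup.mk'_apply, QuotientGroup.eq_one_iff, Subgroup.mem_subgroupOf]
          exact hx
        rw [h3, map_one]
    obtain ⟨u', hu', hu'2⟩ := h1 u.2
    have h3 : u' = u := Subtype.ext hu'2
    subst h3
    exact hu'

omit [Fintype I] in
theorem sr_inj {i j : I} (hij : (sr i : I → ℤ) = sr j) : i = j := by
  by_contra hne
  have := congrFun hij i
  rw [sr_self, sr_ne hne] at this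
  exact absurd this one_ne_zero

/-- **A nondegenerate linear character of `U`.** -/
theorem exists_theta [Finite W] [Finite Y] [Fact p.Prime] (R : RGD cs h p T n X) :
    ∃ θ : ↥(RGD.Sup X (RGD.Pos cs h)) →* ℂˣ, ∀ i, ∃ (l : Y) (_ : l ∈ X (sr i))
      (hlU : l ∈ RGD.Sup X (RGD.Pos cs h)), θ ⟨l, hlU⟩ ≠ 1 := by
  choose θ h1 l hl hlU h2 using fun i => exists_theta_one R i
  refine ⟨∏ i, θ i, fun i => ⟨l i, hl i, hlU i, ?_⟩⟩
  rw [MonoidHom.finsetProd_apply, Finset.prod_eq_single i]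
  · exact h2 i
  · intro j _ hj
    exact h1 j _ (RGD.le_Sup (S := RGD.PosNe cs h j)
      ⟨isRoot_sr cs h i, sr_nonneg i, fun he => hj (sr_inj he).symm⟩ (hl i)) _
  · exact fun hi => absurd (Finset.mem_univ i) hi

/-- `w⁻¹` maps all simple roots to negative roots only for `w = w₀` -/
theorem eq_w0 [Finite W] (h : IsCartan M A) {w : W} (hw : ∀ i, rep cs h w⁻¹ (sr i) ≤ 0) : w = w0 cs := by
  have h1 : w⁻¹ * w0 cs = 1 := by
    apply eq_one_of_nonneg cs h
    intro i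
    have key : ∀ y : I → ℤ, y ≤ 0 → 0 ≤ rep cs h w⁻¹ y := by
      intro y hy
      have h3 : y = ∑ k, y k • sr k := by
        funext j
        simp [Finset.sum_apply, sr, Pi.single_apply]
      rw [h3, map_sum]
      refine Finset.sum_nonneg fun k _ => ?_
      rw [map_smul]
      intro j
      rw [Pi.smul_apply, smul_eq_mul]
      exact mul_nonneg_of_nonpos_of_nonpos (hy k) (hw k j)
    have h2 := key _ (rep_w0_nonpos (isRoot_sr cs h i) (sr_nonneg i))
    rwa [← rep_mul_apply] at h2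
  exact (inv_mul_eq_one.1 h1)

variable (R : RGD cs h p T n X)

include R

/-- the normal form of an element -/
theorem exists_form [Finite W] (hG : Nodes.Bruhat.GG cs h T X = ⊤) (x : Y) :
    ∃ u ∈ RGD.Sup X (RGD.Pos cs h), ∃ w k, Rp cs R.nsys w k ∧ ∃ b ∈ RGD.B cs h T X, x = u * k * b := by
  obtain ⟨w, b₁, hb₁, k, hk, b₂, hb₂, e⟩ := (Nodes.Bruhat.mem_GG R).1
    (show x ∈ Nodes.Bruhat.GG cs h T X by rw [hG]; exact Subgroup.mem_top x)
  obtain ⟨t, ht, u, hu, e'⟩ := R.mem_B.1 (inv_mem hb₁)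
  have hb : b₁ = u⁻¹ * t⁻¹ := by
    rw [← inv_inv b₁, e']; group
  have ht' : k⁻¹ * t⁻¹ * k ∈ T := by
    have h1 := (mem_normalizer_iff_cj.1 hk.inv.mem_normalizer)
    have h2 : k⁻¹ * t⁻¹ * k⁻¹⁻¹ ∈ cj k⁻¹ T := conj_mem_cj.2 (inv_mem ht)
    rwa [h1, inv_inv] at h2
  refine ⟨u⁻¹, inv_mem hu, w, k, hk, (k⁻¹ * t⁻¹ * k) * b₂, mul_mem (RGD.T_le_B ht') hb₂, ?_⟩
  rw [e, hb]
  group

/-- **The double cosets and a nondegenerate character.** -/
theorem cover [Finite W] (hG : Nodes.Bruhat.GG cs h T X = ⊤) {g₀ : Y} (hg₀ : Rp cs R.nsys (w0 cs) g₀)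
    {θ : ↥(RGD.Sup X (RGD.Pos cs h)) →* ℂˣ} (hθ : ∀ i, ∃ (l : Y) (_ : l ∈ X (sr i))
      (hlU : l ∈ RGD.Sup X (RGD.Pos cs h)), θ ⟨l, hlU⟩ ≠ 1) (x : Y) :
    (∃ u ∈ RGD.Sup X (RGD.Pos cs h), ∃ b ∈ RGD.B cs h T X, x = u * g₀ * b) ∨
      ∃ (l : Y) (hl : l ∈ RGD.Sup X (RGD.Pos cs h)), x⁻¹ * l * x ∈ RGD.Sup X (RGD.Pos cs h) ∧ θ ⟨l, hl⟩ ≠ 1 := by
  obtain ⟨u, hu, w, k, hk, b, hb, rfl⟩ := exists_form R hG x
  by_cases hw : ∀ i, rep cs h w⁻¹ (sr i) ≤ 0
  · left
    have := eq_w0 h hw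
    subst this
    have h1 := hg₀.unique hk
    refine ⟨u, hu, (g₀⁻¹ * k) * b, mul_mem (RGD.T_le_B h1) hb, ?_⟩
    group
  · right
    push Not at hw
    obtain ⟨i, hi⟩ := hw
    have hroot : IsRoot cs h (rep cs h w⁻¹ (sr i)) := ⟨_, _, rfl⟩
    have hpos : 0 ≤ rep cs h w⁻¹ (sr i) := by
      by_contra hcon
      exact hi (hroot.not_nonneg_iff.1 hcon)
    obtain ⟨l, hl, hlU, hlθ⟩ := hθ i
    refine ⟨u * l * u⁻¹, mul_mem (mul_mem hu hlU) (inv_mem hu), ?_, ?_⟩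
    · have h1 : k⁻¹ * l * k ∈ RGD.Sup X (RGD.Pos cs h) :=
        RGD.le_Sup (S := RGD.Pos cs h) ⟨hroot, hpos⟩ (R.conj_mem' hk (isRoot_sr cs h i) hl)
      have h2 : (u * k * b)⁻¹ * (u * l * u⁻¹) * (u * k * b) = b⁻¹ * (k⁻¹ * l * k) * b := by group
      rw [h2]
      have h3 := (Subgroup.mem_normalizer_iff.1 (R.B_le_normalizer_U (inv_mem hb))) (k⁻¹ * l * k)
      rw [inv_inv] at h3
      exact h3.1 h1
    · have h1 : (⟨u * l * u⁻¹, mul_mem (mul_mem hu hlU) (inv_mem hu)⟩ : ↥(RGD.Sup X (RGD.Pos cs h))) =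
          ⟨u, hu⟩ * ⟨l, hlU⟩ * (⟨u, hu⟩)⁻¹ := rfl
      rw [h1, map_mul, map_mul, map_inv, mul_right_comm, mul_inv_cancel, one_mul]
      exact hlθ

/-- `U ∩ g₀ B g₀⁻¹ = 1` -/
theorem inf_eq [Finite W] {g₀ : Y} (hg₀ : Rp cs R.nsys (w0 cs) g₀) {u : Y}
    (hu : u ∈ RGD.Sup X (RGD.Pos cs h)) (hB : g₀⁻¹ * u * g₀ ∈ RGD.B cs h T X) : u = 1 := by
  have h1 := Nodes.OppDec.mem_PW_of_conj R hg₀ hu hB
  rw [Tits.Exchange.w0_inv, PW_w0, Nodes.OppDec.Sup_empty, Subgroup.mem_bot] at h1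
  exact h1

/-- the sum over the torus -/
theorem sum_tor [Finite W] [Finite Y] [Fintype (RGD.B cs h T X)] [Fintype T] {ψ : RGD.B cs h T X → ℂ}
    (hψ : IsIrrCharacter _ ψ)
    (hU : ∀ (u : Y) (hu : u ∈ RGD.Sup X (RGD.Pos cs h)) (b : RGD.B cs h T X),
      ψ (⟨u, RGD.U_le_B hu⟩ * b) = ψ b) (h1 : ψ ≠ 1) :
    ∑ t : T, ψ ⟨t, RGD.T_le_B t.2⟩ = 0 := by
  classical
  have : Fintype (RGD.Sup X (RGD.Pos cs h)) := Fintype.ofFinite _
  have h2 : ∑ b : RGD.B cs h T X, ψ b = 0 := by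
    have h3 := classInner_irr_ne hψ (isIrr_one (G := RGD.B cs h T X)) h1
    rw [classInner_def] at h3
    rcases mul_eq_zero.1 h3 with h4 | h4
    · exact absurd h4 (inv_ne_zero card_ne_zero')
    · rw [← h4]
      refine Finset.sum_congr rfl fun b _ => ?_
      simp
  have h3 : ∑ b : RGD.B cs h T X, ψ b = ∑ x : RGD.Sup X (RGD.Pos cs h) × T, ψ ⟨x.2, RGD.T_le_B x.2.2⟩ := by
    symm
    refine Fintype.sum_bijective (fun x : RGD.Sup X (RGD.Pos cs h) × T =>
      (⟨x.1, RGD.U_le_B x.1.2⟩ * ⟨x.2, RGD.T_le_B x.2.2⟩ : RGD.B cs h T X)) ⟨?_, ?_⟩ _ _ ?_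
    · rintro ⟨u, t⟩ ⟨u', t'⟩ he
      have he' : (u : Y) * t = u' * t' := congrArg Subtype.val he
      have h4 : (u' : Y)⁻¹ * u = t' * (t : Y)⁻¹ := by
        have : (u : Y) = u' * t' * (t : Y)⁻¹ := by rw [← he']; group
        rw [this]; group
      have h5 : (u' : Y)⁻¹ * u ∈ RGD.Sup X (RGD.Pos cs h) ⊓ T :=
        Subgroup.mem_inf.2 ⟨mul_mem (inv_mem u'.2) u.2, by rw [h4]; exact mul_mem t'.2 (inv_mem t.2)⟩
      rw [Nodes.OppDec.U_inf_T R, Subgroup.mem_bot] at h5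
      have h6 : u' = u := Subtype.ext (inv_mul_eq_one.1 h5)
      subst h6
      exact Prod.ext rfl (Subtype.ext (mul_left_cancel he').symm).symm
    · rintro ⟨b, hb⟩
      obtain ⟨t, ht, u, hu, e⟩ := R.mem_B.1 (inv_mem hb)
      refine ⟨(⟨u⁻¹, inv_mem hu⟩, ⟨t⁻¹, inv_mem ht⟩), Subtype.ext ?_⟩
      show u⁻¹ * t⁻¹ = b
      rw [← inv_inv b, e]
      group
    · rintro ⟨u, t⟩
      exact (hU u u.2 _).symm
  have h5 : ∑ x : RGD.Sup X (RGD.Pos cs h) × T, ψ ⟨x.2, RGD.T_le_B x.2.2⟩ =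
      (Nat.card (RGD.Sup X (RGD.Pos cs h)) : ℂ) * ∑ t : T, ψ ⟨t, RGD.T_le_B t.2⟩ := by
    rw [Fintype.sum_prod_type]
    have h6 : ∀ u ∈ (Finset.univ : Finset (RGD.Sup X (RGD.Pos cs h))),
        ∑ t : T, ψ ⟨((u, t) : RGD.Sup X (RGD.Pos cs h) × T).2, RGD.T_le_B t.2⟩ =
          ∑ t : T, ψ ⟨t, RGD.T_le_B t.2⟩ := fun u _ => rfl
    rw [Finset.sum_congr rfl h6, Finset.sum_const, nsmul_eq_mul, Finset.card_univ, Nat.card_eq_fintype_card]
  rw [h2, h5] at h3
  rcases mul_eq_zero.1 h3.symm with h4 | h4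
  · exact absurd h4 card_ne_zero'
  · exact h4

/-- **The principal series is disjoint from the other series.** -/
theorem dis [Finite W] [Fintype Y] [Fintype (RGD.B cs h T X)] (hG : Nodes.Bruhat.GG cs h T X = ⊤)
    {ψ : RGD.B cs h T X → ℂ} (hψ : IsIrrCharacter _ ψ)
    (hU : ∀ (u : Y) (hu : u ∈ RGD.Sup X (RGD.Pos cs h)) (b : RGD.B cs h T X),
      ψ (⟨u, RGD.U_le_B hu⟩ * b) = ψ b) (h1 : ψ ≠ 1) {χ : Y → ℂ} (hχ : IsIrrCharacter Y χ)
    (hc : cm (RGD.B cs h T X) ψ χ ≠ 0) : cm (RGD.B cs h T X) 1 χ = 0 := by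
  classical
  by_contra h2
  have : Fintype T := Fintype.ofFinite _
  have hone : IsCharacter (RGD.B cs h T X) (1 : RGD.B cs h T X → ℂ) := isCharacter_one
  obtain ⟨x, hx⟩ := H246.Dl.exists_tw _ _ (isIrr_isCharacter hψ) hone hχ hc h2
  apply hx
  obtain ⟨u, hu, w, k, hk, b, hb, rfl⟩ := exists_form R hG x
  rw [H246.Dl.tw_mul _ _ (isIrr_isClassFunction hψ) (isCharacter_isClassFunction hone) (RGD.U_le_B hu) hb]
  have hL : ∀ l ∈ T, k⁻¹ * l * k ∈ RGD.B cs h T X := by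
    intro l hl
    have h3 := (mem_normalizer_iff_cj.1 hk.inv.mem_normalizer)
    have h4 : k⁻¹ * l * k⁻¹⁻¹ ∈ cj k⁻¹ T := conj_mem_cj.2 hl
    rw [h3, inv_inv] at h4
    exact RGD.T_le_B h4
  refine H246.Dl.tw_eq_zero_of_sub _ _ (isIrr_isCharacter hψ) hone k T RGD.T_le_B hL ?_
  rw [← sum_tor R hψ hU h1]
  refine Finset.sum_congr rfl fun l _ => ?_
  simp

end rgd

section main

open Cfsg.Agent.Omega.ML.Ex.Typ Cfsg.Agent.Tits.OppRes Cfsg.Agent.H612.BNCosets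

universe u

/-- **The data of the engines.** -/
theorem exists_dat {l p : ℕ} {M : CoxeterMatrix (Fin l)} {G : Type u} [Group G] [Fintype G] [IsSimpleGroup G]
    (hp : p.Prime) (hp2 : p ≠ 2) (hG : HasRGDT p M G) (J : Set (Fin l)) (hJ : J.Nonempty)
    (hidx : ∀ {W : Type u} [Group W] [Finite W] (cs : CoxeterSystem M W), 2 ∣ (WJ cs J).index) :
    ∃ (U B H : Subgroup G) (_ : Fintype U) (_ : Fintype B) (_ : Fintype H) (θ : U →* ℂˣ) (St : G → ℂ),
      Dat U B θ ∧ OddIrr St ∧ (∀ x, (St x).im = 0) ∧ cm U (lf θ) St ≠ 0 ∧ cm B 1 St ≠ 0 ∧ B ≤ H ∧ 2 ∣ H.index ∧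
        cm H 1 St = 0 := by
  classical
  have : Fact p.Prime := ⟨hp⟩
  obtain ⟨A, h, T, n, X, hW, R, hX⟩ := hG
  obtain ⟨j, hj⟩ := hJ
  have hgen : RGD.B M.toCoxeterSystem h T X ⊔ NN M.toCoxeterSystem R.nsys = ⊤ := by
    rw [eq_top_iff, ← hX]
    exact Nodes.RGDLib.rgd_G1_le R
  have hGG : Nodes.Bruhat.GG M.toCoxeterSystem h T X = ⊤ := by
    rw [eq_top_iff, ← hX]
    exact le_sup_right
  have hne : (R.bnPair hgen).S.Nonempty := ⟨n j, _, rfl⟩
  have hs := SplitRGD.split_of_rgd hp R hgen (Cfsg.Agent.Tits.OfBN.normalCore_eq_bot (R.bnPair hgen) hne)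
  have hM := bnType R hgen
  set P := R.bnPair hgen with hP
  set e := Equiv.ofInjective n R.n_injective with he
  set U := RGD.Sup X (RGD.Pos M.toCoxeterSystem h) with hU
  set B := RGD.B M.toCoxeterSystem h T X with hB
  have hPB : P.B = B := rfl
  have : Fintype U := Fintype.ofFinite _
  have : Fintype B := Fintype.ofFinite _
  have : Fintype (PJ P e J) := Fintype.ofFinite _
  obtain ⟨St, hSt, hStr, hStU, hStB, hSti⟩ := exists_st hs hp hp2 hM
  have heven := even_index hs hp hp2 hM J hidx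
  have hBJ : B ≤ PJ P e J := B_le_PJ P e J
  obtain ⟨θ, hθ⟩ := exists_theta R
  obtain ⟨g₀, hg₀⟩ := exists_rp M.toCoxeterSystem R.nsys (w0 M.toCoxeterSystem)
  have hUB : U ≤ B := RGD.U_le_B
  refine ⟨U, B, PJ P e J, inferInstance, inferInstance, inferInstance, θ, St, ?_, hSt, hStr, ?_, cm_one_ne B hStB, hBJ,
    heven, ?_⟩
  · exact
      { le := hUB
        norm := hs.norm
        odd := by
          rw [Nat.odd_iff]
          exact Nat.odd_iff.1 (odd_card hs hp hp2)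
        even := heven.trans (Subgroup.index_dvd_of_le hBJ)
        ne := by
          rintro rfl
          obtain ⟨l, hl, hlU, hlθ⟩ := hθ j
          exact hlθ rfl
        one := by
          have h1 : (fun t : B => (((1 : B →* ℂˣ) t : ℂˣ) : ℂ)) = 1 := by
            funext t
            simp
          have h2 := inner_one (U := U) (B := B) θ 1 g₀ (fun u hu hB => inf_eq R hg₀ hu hB) fun x => by
            rcases cover R hGG hg₀ hθ x with h3 | ⟨l, hl, hx, hlθ⟩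
            · exact Or.inl h3
            · exact Or.inr ⟨l, hl, hUB hx, hlθ⟩
          rw [h1] at h2
          exact h2
        dis := fun ψ hψ hψU hψ1 χ hχ hc => dis R hGG hψ hψU hψ1 hχ hc }
  · have h1 : cm U (lf θ) St = 1 := by
      rw [cm, classInner_def, Finset.sum_eq_single (1 : U)]
      · have h2 : (Nat.card U : ℂ) ≠ 0 := card_ne_zero'
        have h3 := hStU 1 (one_mem U)
        rw [if_pos rfl] at h3
        rw [lf, map_one, Units.val_one, one_mul, Subgroup.coe_one, h3, Complex.conj_natCast]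
        exact inv_mul_cancel₀ h2
      · intro u _ hu
        have h4 : (u : G) ≠ 1 := fun h => hu (Subtype.ext h)
        rw [hStU u u.2, if_neg h4, map_zero, mul_zero]
      · exact fun h => absurd (Finset.mem_univ _) h
    rw [h1]
    exact one_ne_zero
  · rw [cm_one_eq_mult]
    have h1 : OddDeg.mult (PJ P e J) St = 0 := by
      by_contra h2
      exact OddDeg.mult_ne_zero_of_le ((H612.BNAut.PJ_le_iff P e).2 (Set.singleton_subset_iff.2 hj))
        (isIrr_isCharacter hSt.1) h2 (hSti j)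
    rw [h1, map_zero]

/-- **Five irreducible characters of odd degree.** -/
theorem odd5_of_rgdt {l p : ℕ} {M : CoxeterMatrix (Fin l)} {G : Type u} [Group G] [Finite G] [IsSimpleGroup G]
    (hp : p.Prime) (hp2 : p ≠ 2) (hG : HasRGDT p M G) (J : Set (Fin l)) (hJ : J.Nonempty)
    (hidx : ∀ {W : Type u} [Group W] [Finite W] (cs : CoxeterSystem M W), 2 ∣ (WJ cs J).index) : Odd5 G := by
  classical
  have := Fintype.ofFinite G
  obtain ⟨U, B, H, _, _, _, θ, St, D, hSt, hStr, hStθ, hStB', hBJ, heven, hStH⟩ := exists_dat hp hp2 hG J hJ hidx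
  obtain ⟨α, hα, hα1, hαJ⟩ := exists_alpha H heven
  have hStc := isIrr_isCharacter hSt.1
  have hαc := isIrr_isCharacter hα.1
  -- `α` is not the Steinberg character
  have hαSt : α ≠ St := by
    rintro rfl
    exact hαJ hStH
  have hαB : cm B 1 α ≠ 0 := by
    apply cm_one_ne
    refine OddDeg.mult_ne_zero_of_le hBJ hαc ?_
    intro h1
    apply hαJ
    rw [cm_one_eq_mult, h1, map_zero]
  have hone : IsCharacter B (1 : B → ℂ) := isCharacter_one
  have hθα : cm U (lf θ) α = 0 := by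
    by_contra h1
    exact hαSt (unique_both U B (isChar_lf θ) hone D.one hα.1 hSt.1 h1 hαB hStθ hStB').1
  have hθα' : cm U (lf θ) (fun x => conj (α x)) = 0 := by
    by_contra h1
    have h2 : cm B 1 (fun x => conj (α x)) ≠ 0 := by
      rw [cm_one_conj B hαc]
      exact hαB
    have h3 := (unique_both U B (isChar_lf θ) hone D.one (isIrr_conj hα.1) hSt.1 h1 h2 hStθ hStB').1
    apply hαSt
    funext x
    have h4 := congrFun h3 x
    rw [← Complex.conj_conj (α x), h4]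
    exact Complex.conj_eq_iff_im.2 (hStr x)
  exact five D hSt hStr hStθ hStB' hα hα1 hαB hθα hθα'

end main

end Cfsg.Agent.H601.K4
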